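import Mathlib
import Cfsg.Prelude.Def_EvenType
import Cfsg.Prelude.Def_CaseTheorems
import Cfsg.Prelude.Def_ClassificationK

/-! Strongly `p`-embedded subgroups: the equivalent conditions. -/

set_option linter.style.haveILetI false
set_option linter.unusedSectionVars false

namespace Cfsg.Lib.Embedded

open scoped Pointwise

variable {G : Type*} [Group G] [Finite G] {p : ℕ} [Fact p.Prime]

theorem not_prankLE_zero_iff {H : Type*} [Group H] [Finite H] :
    ¬ Cfsg.PRankLE p 0 H ↔ p ∣ Nat.card H := by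
  constructor
  · intro h
    rw [Cfsg.PRankLE] at h
    push Not at h
    obtain ⟨A, -, hA, hcard⟩ := h
    rw [pow_zero] at hcard
    haveI : Nontrivial A := Finite.one_lt_card_iff_nontrivial.1 hcard
    obtain ⟨⟨a, ha⟩, hne⟩ := exists_ne (1 : A)
    have hord : orderOf a = p := orderOf_eq_prime (hA a ha) fun h1 => hne (Subtype.ext h1)
    exact hord ▸ orderOf_dvd_natCard a
  · intro h hle
    obtain ⟨x, hx⟩ := exists_prime_orderOf_dvd_card' p h
    have := hle (Subgroup.zpowers x) inferInstance fun a ha => by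
      obtain ⟨k, rfl⟩ := ha
      show (x ^ k) ^ p = 1
      rw [← zpow_natCast, ← zpow_mul, mul_comm, zpow_mul, zpow_natCast, ← hx, pow_orderOf_eq_one,
        one_zpow]
    rw [Nat.card_zpowers, hx, pow_zero] at this
    exact absurd this (not_le.2 (Fact.out : p.Prime).one_lt)

theorem ne_bot_of_dvd {Q : Subgroup G} (h : p ∣ Nat.card Q) : Q ≠ ⊥ := by
  rintro rfl
  rw [Subgroup.card_bot, Nat.dvd_one] at h
  exact (Fact.out : p.Prime).ne_one h

theorem dvd_of_ne_bot {Q : Subgroup G} (hQ : IsPGroup p Q) (h : Q ≠ ⊥) : p ∣ Nat.card Q := by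
  obtain ⟨k, hk⟩ := IsPGroup.iff_card.1 hQ
  rcases Nat.eq_zero_or_pos k with rfl | hk0
  · rw [pow_zero, Subgroup.card_eq_one] at hk
    exact absurd hk h
  · rw [hk]; exact dvd_pow_self p (Nat.pos_iff_ne_zero.1 hk0)

theorem core_le_iff (P : Sylow p G) (M : Subgroup G) :
    Cfsg.kGeneratedCore p 1 (P : Subgroup G) ≤ M ↔
      ∀ Q : Subgroup G, Q ≤ (P : Subgroup G) → Q ≠ ⊥ →
        Subgroup.normalizer (Q : Set G) ≤ M := by
  rw [Cfsg.kGeneratedCore, iSup_le_iff]
  constructor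
  · intro h Q hQP hQ
    exact h ⟨Q, hQP, not_prankLE_zero_iff.2 (dvd_of_ne_bot (P.isPGroup'.to_le hQP) hQ)⟩
  · rintro h ⟨Q, hQP, hQ⟩
    exact h Q hQP (ne_bot_of_dvd (not_prankLE_zero_iff.1 hQ))

/-- All normalisers of nontrivial `p`-subgroups of `M` lie in `M`. -/
def NormCond (p : ℕ) (M : Subgroup G) : Prop :=
  ∀ Q : Subgroup G, Q ≤ M → IsPGroup p Q → Q ≠ ⊥ → Subgroup.normalizer (Q : Set G) ≤ M

theorem conjMap_normalizer (g : G) (Q : Subgroup G) :
    (Subgroup.normalizer (Q : Set G)).map (MulAut.conj g).toMonoidHom =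
      Subgroup.normalizer ((Q.map (MulAut.conj g).toMonoidHom : Subgroup G) : Set G) :=
  Subgroup.map_equiv_normalizer_eq Q (MulAut.conj g)

theorem map_conj_le_of_mem {M Q : Subgroup G} {m : G} (hm : m ∈ M) (hQ : Q ≤ M) :
    Q.map (MulAut.conj m).toMonoidHom ≤ M := by
  rintro _ ⟨q, hq, rfl⟩
  exact mul_mem (mul_mem hm (hQ hq)) (inv_mem hm)

theorem map_conj_eq {Q : Subgroup G} (m : G) :
    (Q.map (MulAut.conj m).toMonoidHom).map (MulAut.conj m⁻¹).toMonoidHom = Q := by
  rw [Subgroup.map_map]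
  convert Subgroup.map_id Q using 2
  ext x; simp [mul_assoc]

/-- A `p`-subgroup of `M` is conjugate in `M` into a given Sylow subgroup of `M`. -/
theorem exists_conj_le (M : Subgroup G) (S : Sylow p M) (Q : Subgroup G) (hQM : Q ≤ M)
    (hQ : IsPGroup p Q) :
    ∃ m ∈ M, Q.map (MulAut.conj m).toMonoidHom ≤ (S : Subgroup M).map M.subtype := by
  obtain ⟨T, hT⟩ := (hQ.comap_of_injective M.subtype (Subgroup.subtype_injective M) :
    IsPGroup p (Q.subgroupOf M)).exists_le_sylow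
  obtain ⟨m, hm⟩ := MulAction.exists_smul_eq M T S
  refine ⟨m, m.2, ?_⟩
  rintro _ ⟨q, hq, rfl⟩
  refine ⟨m * ⟨q, hQM hq⟩ * m⁻¹, ?_, rfl⟩
  rw [← hm]
  exact ⟨_, hT (x := ⟨q, hQM hq⟩) hq, rfl⟩

theorem normCond_of_core {M : Subgroup G} (P : Sylow p G) (hp : p ∣ Nat.card G)
    (h : Cfsg.kGeneratedCore p 1 (P : Subgroup G) ≤ M) :
    (P : Subgroup G) ≤ M ∧ NormCond p M := by
  rw [core_le_iff] at h
  have hPne : (P : Subgroup G) ≠ ⊥ := ne_bot_of_dvd (P.dvd_card_of_dvd_card hp)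
  have hPM : (P : Subgroup G) ≤ M := Subgroup.le_normalizer.trans (h _ le_rfl hPne)
  refine ⟨hPM, fun Q hQM hQ hQne => ?_⟩
  obtain ⟨m, hm, hle⟩ := exists_conj_le M (P.subtype hPM) Q hQM hQ
  have hle' : Q.map (MulAut.conj m).toMonoidHom ≤ (P : Subgroup G) := by
    refine hle.trans ?_
    rw [Sylow.coe_subtype, Subgroup.subgroupOf_map_subtype]
    exact inf_le_left
  have hne : Q.map (MulAut.conj m).toMonoidHom ≠ ⊥ := by
    rw [ne_eq, Subgroup.map_eq_bot_iff_of_injective _ (MulAut.conj m).injective]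
    exact hQne
  have h1 := h _ hle' hne
  rw [← conjMap_normalizer] at h1
  intro x hx
  have h2 := h1 ⟨x, hx, rfl⟩
  have := mul_mem (mul_mem (inv_mem hm) h2) hm
  simpa [mul_assoc] using this

/-- Under `NormCond`, a Sylow subgroup of `M` is Sylow in `G`. -/
theorem exists_sylow {M : Subgroup G} (hpM : p ∣ Nat.card M) (hN : NormCond p M)
    (S : Sylow p M) : ∃ P : Sylow p G, (P : Subgroup G) = (S : Subgroup M).map M.subtype := by
  set T : Subgroup G := (S : Subgroup M).map M.subtype with hT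
  have hTp : IsPGroup p T := S.isPGroup'.map _
  have hTne : T ≠ ⊥ := by
    rw [hT, ne_eq, Subgroup.map_eq_bot_iff_of_injective _ (Subgroup.subtype_injective M)]
    intro h
    have := S.dvd_card_of_dvd_card hpM
    rw [h, Subgroup.card_bot, Nat.dvd_one] at this
    exact (Fact.out : p.Prime).ne_one this
  have hTM : T ≤ M := Subgroup.map_subtype_le _
  obtain ⟨P, hP⟩ := hTp.exists_le_sylow
  refine ⟨P, le_antisymm ?_ hP⟩
  by_contra hne
  haveI : Group.IsNilpotent (P : Subgroup G) := P.isPGroup'.isNilpotent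
  have hlt : T.subgroupOf (P : Subgroup G) < ⊤ :=
    lt_top_iff_ne_top.2 fun h => hne (Subgroup.subgroupOf_eq_top.1 h)
  obtain ⟨x, hxN, hxT⟩ := SetLike.exists_of_lt
    (Group.normalizerCondition_of_isNilpotent _ hlt)
  have hxM : (x : G) ∈ M := by
    refine hN T hTM hTp hTne (Subgroup.mem_normalizer_iff.2 fun y => ⟨fun hy => ?_, fun hy => ?_⟩)
    · exact (Subgroup.mem_normalizer_iff.1 hxN ⟨y, hP hy⟩).1 hy
    · have hyP : y ∈ (P : Subgroup G) := by
        have := mul_mem (mul_mem (inv_mem x.2) (hP hy)) x.2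
        simpa [mul_assoc] using this
      exact (Subgroup.mem_normalizer_iff.1 hxN ⟨y, hyP⟩).2 hy
  have hsup : IsPGroup p ((P : Subgroup G).subgroupOf M) :=
    P.isPGroup'.comap_of_injective M.subtype (Subgroup.subtype_injective M)
  have hSle : (S : Subgroup M) ≤ (P : Subgroup G).subgroupOf M :=
    fun s hs => hP ⟨s, hs, rfl⟩
  have := S.is_maximal' hsup hSle
  apply hxT
  show (x : G) ∈ T
  refine ⟨⟨x, hxM⟩, ?_, rfl⟩
  rw [← this]
  exact x.2

theorem sPE_iff_norm {M : Subgroup G} :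
    Cfsg.IsStronglyPEmbedded p M ↔ M ≠ ⊤ ∧ p ∣ Nat.card M ∧ NormCond p M := by
  constructor
  · rintro ⟨hp, hM, P, hP⟩
    obtain ⟨hPM, hN⟩ := normCond_of_core P hp hP
    exact ⟨hM, (P.dvd_card_of_dvd_card hp).trans (Subgroup.card_dvd_of_le hPM), hN⟩
  · rintro ⟨hM, hpM, hN⟩
    obtain ⟨S⟩ : Nonempty (Sylow p M) := inferInstance
    obtain ⟨P, hP⟩ := exists_sylow hpM hN S
    refine ⟨hpM.trans (Subgroup.card_subgroup_dvd_card M), hM, P, ?_⟩
    rw [core_le_iff]
    intro Q hQP hQ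
    exact hN Q (hQP.trans (hP ▸ Subgroup.map_subtype_le _)) (P.isPGroup'.to_le hQP) hQ

/-- `M` meets each of its other conjugates in a group of order prime to `p`. -/
def ConjCond (p : ℕ) (M : Subgroup G) : Prop :=
  ∀ g : G, g ∉ M → ¬ p ∣ Nat.card ↥(M ⊓ M.map (MulAut.conj g).toMonoidHom)

theorem mem_conj_iff {M : Subgroup G} {g x : G} :
    x ∈ M.map (MulAut.conj g).toMonoidHom ↔ g⁻¹ * x * g ∈ M := by
  constructor
  · rintro ⟨y, hy, rfl⟩
    simpa [mul_assoc] using hy
  · intro h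
    exact ⟨_, h, by simp [mul_assoc]⟩

theorem norm_of_conj {M : Subgroup G} (h : ConjCond p M) : NormCond p M := by
  intro Q hQM hQ hQne g hg
  by_contra hgM
  refine h g hgM ((dvd_of_ne_bot hQ hQne).trans (Subgroup.card_dvd_of_le (le_inf hQM ?_)))
  intro q hq
  rw [mem_conj_iff]
  exact hQM ((Subgroup.mem_normalizer_iff''.1 hg q).1 hq)

theorem conj_of_norm {M : Subgroup G} (h : NormCond p M) : ConjCond p M := by
  intro g hgM hd
  set D : Subgroup G := M ⊓ M.map (MulAut.conj g).toMonoidHom with hD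
  obtain ⟨S⟩ : Nonempty (Sylow p D) := inferInstance
  set R : Subgroup G := (S : Subgroup D).map D.subtype with hR
  have hRD : R ≤ D := Subgroup.map_subtype_le _
  have hRp : IsPGroup p R := S.isPGroup'.map _
  have hRne : R ≠ ⊥ := by
    rw [hR, ne_eq, Subgroup.map_eq_bot_iff_of_injective _ (Subgroup.subtype_injective D)]
    intro h1
    have := S.dvd_card_of_dvd_card hd
    rw [h1, Subgroup.card_bot, Nat.dvd_one] at this
    exact (Fact.out : p.Prime).ne_one this
  have hNR := h R (hRD.trans inf_le_left) hRp hRne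
  -- `R` is a Sylow subgroup of `G`
  obtain ⟨P, hP⟩ : ∃ P : Sylow p G, (P : Subgroup G) = R := by
    set R' : Subgroup G := R.map (MulAut.conj g⁻¹).toMonoidHom with hR'
    have hR'M : R' ≤ M := by
      rintro _ ⟨r, hr, rfl⟩
      have := mem_conj_iff.1 (hRD hr).2
      simpa using this
    obtain ⟨T, hT⟩ := ((hRp.map _).comap_of_injective M.subtype (Subgroup.subtype_injective M) :
      IsPGroup p (R'.subgroupOf M)).exists_le_sylow
    have hpM : p ∣ Nat.card M := hd.trans (Subgroup.card_dvd_of_le inf_le_left)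
    obtain ⟨P, hP⟩ := exists_sylow hpM h T
    set P' : Sylow p G := g • P with hP'
    have hRP : R ≤ (P' : Subgroup G) := by
      intro r hr
      have h1 : g⁻¹ * r * g ∈ (P : Subgroup G) := by
        rw [hP]
        have h2 : g⁻¹ * r * g ∈ R' := ⟨r, hr, by simp⟩
        exact ⟨⟨_, hR'M h2⟩, hT h2, rfl⟩
      exact ⟨_, h1, by simp [mul_assoc]⟩
    refine ⟨P', le_antisymm ?_ hRP⟩
    by_contra hne
    haveI : Group.IsNilpotent (P' : Subgroup G) := P'.isPGroup'.isNilpotent
    have hlt : R.subgroupOf (P' : Subgroup G) < ⊤ :=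
      lt_top_iff_ne_top.2 fun h1 => hne (Subgroup.subgroupOf_eq_top.1 h1)
    obtain ⟨x, hxN, hxR⟩ := SetLike.exists_of_lt
      (Group.normalizerCondition_of_isNilpotent _ hlt)
    have hxN' : (x : G) ∈ Subgroup.normalizer (R : Set G) := by
      refine Subgroup.mem_normalizer_iff.2 fun y => ⟨fun hy => ?_, fun hy => ?_⟩
      · exact (Subgroup.mem_normalizer_iff.1 hxN ⟨y, hRP hy⟩).1 hy
      · have hyP : y ∈ (P' : Subgroup G) := by
          have := mul_mem (mul_mem (inv_mem x.2) (hRP hy)) x.2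
          simpa [mul_assoc] using this
        exact (Subgroup.mem_normalizer_iff.1 hxN ⟨y, hyP⟩).2 hy
    have hxD : (x : G) ∈ D := by
      refine Subgroup.mem_inf.2 ⟨hNR hxN', ?_⟩
      obtain ⟨z, hz, hzx⟩ := x.2
      refine ⟨z, ?_, hzx⟩
      rw [hP] at hz
      exact Subgroup.map_subtype_le _ hz
    have hmax := S.is_maximal'
      (P'.isPGroup'.comap_of_injective D.subtype (Subgroup.subtype_injective D))
      (fun s hs => hRP ⟨s, hs, rfl⟩)
    apply hxR
    show (x : G) ∈ R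
    refine ⟨⟨x, hxD⟩, ?_, rfl⟩
    rw [← hmax]
    exact x.2
  have hRM : (P : Subgroup G) ≤ M := hP ▸ hRD.trans inf_le_left
  have hgR : ((g⁻¹ • P : Sylow p G) : Subgroup G) ≤ M := by
    rintro _ ⟨r, hr, rfl⟩
    rw [hP] at hr
    have := mem_conj_iff.1 (hRD hr).2
    simpa using this
  obtain ⟨m, hm⟩ := MulAction.exists_smul_eq M ((g⁻¹ • P).subtype hgR) (P.subtype hRM)
  have h5 : (m • (g⁻¹ • P)).subtype (Sylow.smul_le hgR m) = P.subtype hRM := by
    rw [← Sylow.smul_subtype]; exact hm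
  have h6 : ((m : G) * g⁻¹) • P = P := by rw [mul_smul]; exact Sylow.subtype_injective h5
  have h6' : (m : G) * g⁻¹ ∈ Subgroup.normalizer ((P : Subgroup G) : Set G) :=
    Sylow.smul_eq_iff_mem_normalizer.1 h6
  rw [hP] at h6'
  have h7 := hNR h6'
  exact hgM (by simpa using inv_mem (mul_mem (inv_mem m.2) h7))

theorem sPE_iff_conj {M : Subgroup G} :
    Cfsg.IsStronglyPEmbedded p M ↔ M ≠ ⊤ ∧ p ∣ Nat.card M ∧ ConjCond p M := by
  rw [sPE_iff_norm]
  exact and_congr_right fun _ => and_congr_right fun _ => ⟨conj_of_norm, norm_of_conj⟩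

end Cfsg.Lib.Embedded
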