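import Mathlib
import Cfsg.Agent.Components.Embedded.Basic
import Cfsg.Agent.Components.Cores
import Cfsg.Agent.Components.PComponents
import Cfsg.Agent.Transfer.Basic
import Cfsg.Prelude.Def_Amalgam
import Cfsg.Prelude.Def_AlmostLie
import Cfsg.Prelude.Def_LocalEven
import Cfsg.Prelude.Def_SylowChains
import Cfsg.Prelude.Def_SylowControl
import Cfsg.Prelude.Def_Balance
import Cfsg.Prelude.Def_PLocal

/-! Applications of the strongly `p`-embedded criteria. -/

set_option linter.style.haveILetI false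
set_option linter.unusedSectionVars false

namespace Cfsg.Lib.Embedded

open scoped Pointwise

variable {G : Type*} [Group G] [Finite G] {p : ℕ} [Fact p.Prime]

theorem core_map_conj (P : Sylow p G) (g : G) (M : Subgroup G) :
    (Cfsg.kGeneratedCore p 1 (P : Subgroup G)).map (MulAut.conj g).toMonoidHom ≤ M ↔
      Cfsg.kGeneratedCore p 1 ((g • P : Sylow p G) : Subgroup G) ≤ M := by
  rw [Subgroup.map_le_iff_le_comap, core_le_iff, core_le_iff]
  have hcoe : ((g • P : Sylow p G) : Subgroup G) =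
      (P : Subgroup G).map (MulAut.conj g).toMonoidHom := rfl
  constructor
  · intro h Q hQ hQne
    rw [hcoe] at hQ
    have hQ' : Q.map (MulAut.conj g⁻¹).toMonoidHom ≤ (P : Subgroup G) := by
      refine (Subgroup.map_mono hQ).trans (le_of_eq ?_)
      exact map_conj_eq g
    have h1 := h _ hQ' (by
      rw [ne_eq, Subgroup.map_eq_bot_iff_of_injective _ (MulAut.conj g⁻¹).injective]
      exact hQne)
    rw [← conjMap_normalizer] at h1
    intro x hx
    have h2 := h1 ⟨x, hx, rfl⟩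
    simpa [Subgroup.mem_comap, mul_assoc] using h2
  · intro h Q hQ hQne
    rw [← Subgroup.map_le_iff_le_comap, conjMap_normalizer]
    refine h _ (hcoe ▸ Subgroup.map_mono hQ) ?_
    rw [ne_eq, Subgroup.map_eq_bot_iff_of_injective _ (MulAut.conj g).injective]
    exact hQne

theorem core_conj_iff (T : Sylow p G) (M : Subgroup G) (hM : M ≠ ⊤) (hpM : p ∣ Nat.card M) :
    Cfsg.IsStronglyPEmbedded p M ↔
      ∃ g : G, (Cfsg.kGeneratedCore p 1 (T : Subgroup G)).map (MulAut.conj g).toMonoidHom ≤ M := by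
  constructor
  · rintro ⟨-, -, P, hP⟩
    obtain ⟨g, hg⟩ := MulAction.exists_smul_eq G T P
    exact ⟨g, (core_map_conj T g M).2 (hg ▸ hP)⟩
  · rintro ⟨g, hg⟩
    exact ⟨hpM.trans (Subgroup.card_subgroup_dvd_card M), hM, g • T, (core_map_conj T g M).1 hg⟩

theorem kCore_eq (T : Sylow p G) :
    (⨆ A : {A : Subgroup G // A ≤ (T : Subgroup G) ∧ A ≠ ⊥},
      Subgroup.normalizer ((A : Subgroup G) : Set G)) = Cfsg.kGeneratedCore p 1 (T : Subgroup G) := by
  refine le_antisymm (iSup_le fun A => ?_) ((core_le_iff T _).2 fun Q hQ hQne => ?_)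
  · exact (core_le_iff T _).1 le_rfl A A.2.1 A.2.2
  · exact le_iSup_of_le ⟨Q, hQ, hQne⟩ le_rfl

/-! Inheritance -/

theorem sPE_inf {X : Subgroup G} (hX : Cfsg.IsStronglyPEmbedded p X) (H : Subgroup G)
    (hH : ¬ H ≤ X) (hp : p ∣ Nat.card ↥(H ⊓ X)) :
    Cfsg.IsStronglyPEmbedded p ((H ⊓ X).subgroupOf H) := by
  rw [sPE_iff_conj] at hX ⊢
  obtain ⟨-, -, hc⟩ := hX
  refine ⟨fun h => hH ((Subgroup.subgroupOf_eq_top.1 h).trans inf_le_right), ?_, ?_⟩
  · rwa [Nat.card_congr (Subgroup.subgroupOfEquivOfLe (inf_le_left : H ⊓ X ≤ H)).toEquiv]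
  · intro g hg hd
    have hgX : (g : G) ∉ X := fun h => hg ⟨g.2, h⟩
    refine hc g hgX (hd.trans ?_)
    refine (dvd_of_eq ((Nat.card_congr (Subgroup.equivMapOfInjective _ _
      (Subgroup.subtype_injective H)).toEquiv))).trans (Subgroup.card_dvd_of_le ?_)
    rintro _ ⟨x, hx, rfl⟩
    refine Subgroup.mem_inf.2 ⟨hx.1.2, ?_⟩
    obtain ⟨y, hy, hyx⟩ := hx.2
    exact ⟨y, hy.2, congrArg Subtype.val hyx⟩

theorem sPE_pElementClosure {X : Subgroup G} (hX : Cfsg.IsStronglyPEmbedded p X) :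
    Cfsg.IsStronglyPEmbedded p (X.subgroupOf (Cfsg.pElementClosure p (⊤ : Subgroup G))) := by
  set E : Subgroup G := Cfsg.pElementClosure p (⊤ : Subgroup G) with hE
  obtain ⟨hp, hXne, P, hP⟩ := hX
  obtain ⟨hPX, hN⟩ := normCond_of_core P hp hP
  haveI hEn : E.Normal := by
    refine ⟨fun x hx g => ?_⟩
    induction hx using Subgroup.closure_induction with
    | mem y hy =>
      refine Subgroup.subset_closure ⟨trivial, ?_⟩
      obtain ⟨k, hk⟩ := hy.2
      exact ⟨k, by rw [← MulAut.conj_apply, MulEquiv.orderOf_eq, hk]⟩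
    | one => simp
    | mul a b _ _ ha hb =>
      have h1 : g * (a * b) * g⁻¹ = (g * a * g⁻¹) * (g * b * g⁻¹) := by simp [mul_assoc]
      rw [h1]; exact mul_mem ha hb
    | inv a _ ha =>
      have h1 : g * a⁻¹ * g⁻¹ = (g * a * g⁻¹)⁻¹ := by simp [mul_assoc]
      rw [h1]; exact inv_mem ha
  have hPE : (P : Subgroup G) ≤ E := by
    intro x hx
    obtain ⟨k, hk⟩ := IsPGroup.iff_orderOf.1 P.isPGroup' ⟨x, hx⟩
    rw [Subgroup.orderOf_mk] at hk
    exact Subgroup.subset_closure ⟨trivial, k, hk⟩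
  have hnE : ¬ E ≤ X := by
    intro hle
    apply hXne
    rw [eq_top_iff, ← Sylow.normalizer_sup_eq_top' P hPE]
    exact sup_le (hN _ hPX P.isPGroup' (ne_bot_of_dvd (P.dvd_card_of_dvd_card hp))) hle
  have h := sPE_inf ⟨hp, hXne, P, hP⟩ E hnE
    ((P.dvd_card_of_dvd_card hp).trans (Subgroup.card_dvd_of_le (le_inf hPE hPX)))
  have heq : (E ⊓ X).subgroupOf E = X.subgroupOf E := by
    ext x
    exact ⟨fun hx => hx.2, fun hx => ⟨x.2, hx⟩⟩
  rwa [heq] at h

theorem sPE_quotient {X : Subgroup G} (hX : Cfsg.IsStronglyPEmbedded p X) (N : Subgroup G)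
    [N.Normal] (hN : (Nat.card N).Coprime p) (hsup : X ⊔ N ≠ ⊤) :
    Cfsg.IsStronglyPEmbedded p (X.map (QuotientGroup.mk' N)) := by
  rw [sPE_iff_norm] at hX ⊢
  obtain ⟨hXne, hpX, hnc⟩ := hX
  set q := QuotientGroup.mk' N with hq
  have hqs : Function.Surjective q := QuotientGroup.mk'_surjective N
  refine ⟨fun h => hsup ?_, ?_, ?_⟩
  · have := congrArg (Subgroup.comap q) h
    rwa [Subgroup.comap_map_eq, hq, QuotientGroup.ker_mk', Subgroup.comap_top] at this
  · obtain ⟨x, hx⟩ := exists_prime_orderOf_dvd_card' p hpX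
    have hxq : orderOf (q (x : G)) = p := by
      have hd : orderOf (q (x : G)) ∣ p := by
        rw [← hx, ← Subgroup.orderOf_coe]; exact orderOf_map_dvd q _
      rcases (Nat.dvd_prime (Fact.out : p.Prime)).1 hd with h | h
      · rw [orderOf_eq_one_iff, hq, QuotientGroup.mk'_apply, QuotientGroup.eq_one_iff] at h
        have h2 := Subgroup.orderOf_dvd_natCard N h
        rw [Subgroup.orderOf_coe, hx] at h2
        exact absurd (Nat.eq_one_of_dvd_coprimes hN h2 dvd_rfl) (Fact.out : p.Prime).ne_one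
      · exact h
    rw [← hxq]
    exact Subgroup.orderOf_dvd_natCard _ ⟨x, x.2, rfl⟩
  · intro Q hQX hQ hQne
    set H : Subgroup G := Q.comap q with hH
    obtain ⟨S⟩ : Nonempty (Sylow p ↥(H ⊓ X)) := inferInstance
    set S' : Subgroup G := (S : Subgroup ↥(H ⊓ X)).map (H ⊓ X).subtype with hS'
    have hS'H : S' ≤ H ⊓ X := Subgroup.map_subtype_le _
    have hcomap : ∀ a ∈ H, ∃ x ∈ H ⊓ X, ∃ n ∈ N, a = x * n := by
      intro a ha
      obtain ⟨x, hx, hxa⟩ := hQX ha
      have hd : x⁻¹ * a ∈ N := QuotientGroup.eq.1 hxa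
      refine ⟨x, ⟨?_, hx⟩, x⁻¹ * a, hd, by simp⟩
      show q x ∈ Q
      rw [hxa]; exact ha
    -- the index of `H ⊓ X` in `H` is prime to `p`
    have hidx : ¬ p ∣ (H ⊓ X).relIndex H := by
      intro hd
      have hNH : N ≤ H := fun n hn => by
        show q n ∈ Q
        rw [hq, QuotientGroup.mk'_apply, (QuotientGroup.eq_one_iff n).2 hn]; exact one_mem Q
      have hsupH : (H ⊓ X) ⊔ N = H := le_antisymm (sup_le inf_le_left hNH) fun a ha => by
        obtain ⟨x, hx, n, hn, rfl⟩ := hcomap a ha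
        exact mul_mem (Subgroup.mem_sup_left hx) (Subgroup.mem_sup_right hn)
      have h2 : (H ⊓ X).relIndex H ∣ Nat.card N := by
        have e1 := Subgroup.relIndex_mul_relIndex (⊥ : Subgroup G) (H ⊓ X) ((H ⊓ X) ⊔ N) bot_le
          le_sup_left
        have e2 := Subgroup.relIndex_mul_relIndex (⊥ : Subgroup G) N ((H ⊓ X) ⊔ N) bot_le
          le_sup_right
        have e3 := Subgroup.relIndex_mul_relIndex (⊥ : Subgroup G) (N ⊓ (H ⊓ X)) (H ⊓ X) bot_le
          inf_le_right
        rw [Subgroup.relIndex_bot_left, Subgroup.relIndex_bot_left] at e1 e2 e3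
        rw [Subgroup.relIndex_sup_right] at e2
        rw [Subgroup.inf_relIndex_right] at e3
        rw [← e2, ← e3, hsupH] at e1
        refine ⟨Nat.card ↥(N ⊓ (H ⊓ X)), ?_⟩
        have h0 : 0 < N.relIndex (H ⊓ X) := Nat.pos_of_ne_zero (Subgroup.index_ne_zero_of_finite)
        refine Nat.eq_of_mul_eq_mul_right h0 ?_
        rw [← e1]; ring
      exact (Fact.out : p.Prime).ne_one (Nat.eq_one_of_dvd_coprimes hN (hd.trans h2) dvd_rfl)
    obtain ⟨SH, hSH⟩ : ∃ SH : Sylow p H, (SH : Subgroup H).map H.subtype = S' := by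
      have hSp : IsPGroup p S' := S.isPGroup'.map _
      obtain ⟨SH, hle⟩ := (hSp.comap_of_injective H.subtype (Subgroup.subtype_injective H) :
        IsPGroup p (S'.subgroupOf H)).exists_le_sylow
      refine ⟨SH, ?_⟩
      have hle' : S' ≤ (SH : Subgroup H).map H.subtype := fun a ha =>
        ⟨⟨a, (hS'H ha).1⟩, hle (x := ⟨a, (hS'H ha).1⟩) ha, rfl⟩
      refine (Subgroup.eq_of_le_of_card_ge hle' ?_).symm
      rw [← Nat.card_congr (Subgroup.equivMapOfInjective _ _ (Subgroup.subtype_injective H)).toEquiv,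
        ← Nat.card_congr (Subgroup.equivMapOfInjective _ _
          (Subgroup.subtype_injective (H ⊓ X))).toEquiv,
        Sylow.card_eq_multiplicity, Sylow.card_eq_multiplicity,
        ← show (H ⊓ X).relIndex H * Nat.card ↥(H ⊓ X) = Nat.card H by
          rw [mul_comm, ← Subgroup.relIndex_bot_left, ← Subgroup.relIndex_bot_left]
          exact Subgroup.relIndex_mul_relIndex _ _ _ bot_le inf_le_left,
        Nat.factorization_mul (show (H ⊓ X).relIndex H ≠ 0 from Subgroup.index_ne_zero_of_finite)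
          Nat.card_pos.ne',
        Finsupp.add_apply, Nat.factorization_eq_zero_of_not_dvd hidx, zero_add]
    have hS'ne : S' ≠ ⊥ := by
      intro hb
      apply hQne
      have hdvd : ¬ p ∣ Nat.card H := by
        intro hd
        have h3 := SH.dvd_card_of_dvd_card hd
        rw [Nat.card_congr (Subgroup.equivMapOfInjective _ _
          (Subgroup.subtype_injective H)).toEquiv, hSH, hb, Subgroup.card_bot, Nat.dvd_one] at h3
        exact (Fact.out : p.Prime).ne_one h3
      by_contra hQ1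
      obtain ⟨y, hy⟩ := exists_prime_orderOf_dvd_card' p (dvd_of_ne_bot hQ hQ1)
      obtain ⟨a, ha⟩ := hqs (y : G ⧸ N)
      have haH : a ∈ H := by show q a ∈ Q; rw [ha]; exact y.2
      apply hdvd
      refine dvd_trans ?_ (Subgroup.orderOf_dvd_natCard H haH)
      rw [← hy, ← Subgroup.orderOf_coe, ← ha]
      exact orderOf_map_dvd q a
    intro gq hgq
    obtain ⟨g, rfl⟩ := hqs gq
    have hgH : ∀ a, a ∈ H ↔ g * a * g⁻¹ ∈ H := by
      intro a
      show q a ∈ Q ↔ q (g * a * g⁻¹) ∈ Q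
      rw [map_mul, map_mul, map_inv]
      exact Subgroup.mem_normalizer_iff.1 hgq (q a)
    -- Frattini argument
    obtain ⟨SH', hSH'⟩ : ∃ SH' : Sylow p H,
        S'.map (MulAut.conj g).toMonoidHom ≤ (SH' : Subgroup H).map H.subtype := by
      have hle : S'.map (MulAut.conj g).toMonoidHom ≤ H := by
        rintro _ ⟨a, ha, rfl⟩
        exact (hgH a).1 (hS'H ha).1
      obtain ⟨T, hT⟩ := (((S.isPGroup'.map (H ⊓ X).subtype).map
        (MulAut.conj g).toMonoidHom).comap_of_injective H.subtype (Subgroup.subtype_injective H) :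
          IsPGroup p ((S'.map (MulAut.conj g).toMonoidHom).subgroupOf H)).exists_le_sylow
      exact ⟨T, fun a ha => ⟨⟨a, hle ha⟩, hT (x := ⟨a, hle ha⟩) ha, rfl⟩⟩
    obtain ⟨h, hh⟩ := MulAction.exists_smul_eq H SH' SH
    have hnorm : (h : G) * g ∈ Subgroup.normalizer (S' : Set G) := by
      have hle3 : S'.map (MulAut.conj ((h : G) * g)).toMonoidHom ≤ S' := by
        rintro _ ⟨z, hz, rfl⟩
        obtain ⟨w, hw, hwz⟩ := hSH' ⟨z, hz, rfl⟩
        rw [← hSH]
        refine ⟨h * w * h⁻¹, ?_, ?_⟩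
        · rw [← hh]; exact ⟨w, hw, rfl⟩
        · show (h : G) * w * (h : G)⁻¹ = _
          rw [show (w : G) = g * z * g⁻¹ from hwz]
          simp [mul_assoc]
      have heq := Subgroup.eq_of_le_of_card_ge hle3 (le_of_eq (Nat.card_congr
        (Subgroup.equivMapOfInjective _ _ (MulAut.conj ((h : G) * g)).injective).toEquiv))
      refine Subgroup.mem_normalizer_iff.2 fun z => ⟨fun hz => heq ▸ ⟨z, hz, rfl⟩, fun hz => ?_⟩
      rw [← heq] at hz
      obtain ⟨w, hw, hwz⟩ := hz
      have hwz' : w = z := (MulAut.conj ((h : G) * g)).injective hwz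
      rw [← hwz']
      exact hw
    have hhg := hnc S' (hS'H.trans inf_le_right) (S.isPGroup'.map _) hS'ne hnorm
    have h4 : q (h : G) ∈ X.map q := hQX h.2
    have h5 : q ((h : G) * g) ∈ X.map q := ⟨_, hhg, rfl⟩
    have := mul_mem (inv_mem h4) h5
    rwa [map_mul, inv_mul_cancel_left] at this

/-! Unique subgroup of order `p` -/

theorem sPE_of_unique (hO : Cfsg.pCore p G = ⊥) (T : Sylow p G) (hT1 : (T : Subgroup G) ≠ ⊥)
    (huniq : ∀ a b : G, a ∈ (T : Subgroup G) → b ∈ (T : Subgroup G) → orderOf a = p →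
      b ^ p = 1 → b ∈ Subgroup.zpowers a) :
    Cfsg.IsStronglyPEmbedded p
      (Subgroup.normalizer (Cfsg.omegaOne p (T : Subgroup G) : Set G)) := by
  have hdT := dvd_of_ne_bot T.isPGroup' hT1
  obtain ⟨z, hz⟩ := exists_prime_orderOf_dvd_card' p hdT
  have hz' : orderOf (z : G) = p := by rw [Subgroup.orderOf_coe, hz]
  have hzp : (z : G) ^ p = 1 := orderOf_dvd_iff_pow_eq_one.1 hz'.dvd
  have hΩ : Cfsg.omegaOne p (T : Subgroup G) = Subgroup.zpowers (z : G) := by
    refine le_antisymm ((Subgroup.closure_le _).2 fun b hb => huniq z b z.2 hb.1 hz' hb.2) ?_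
    rw [Subgroup.zpowers_le]
    exact Subgroup.subset_closure ⟨z.2, hzp⟩
  set Z : Subgroup G := Subgroup.zpowers (z : G) with hZ
  rw [hΩ]
  have hZp : IsPGroup p Z := T.isPGroup'.to_le (Subgroup.zpowers_le.2 z.2)
  refine ⟨hdT.trans (Subgroup.card_subgroup_dvd_card _), ?_, T, ?_⟩
  · intro htop
    haveI : Z.Normal := Subgroup.normalizer_eq_top_iff.1 htop
    have hle : Z ≤ Cfsg.pCore p G :=
      le_sSup (show Z ∈ {N : Subgroup G | N.Normal ∧ IsPGroup p N} from ⟨inferInstance, hZp⟩)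
    rw [hO, le_bot_iff, hZ, Subgroup.zpowers_eq_bot] at hle
    rw [hle, orderOf_one] at hz'
    exact (Fact.out : p.Prime).ne_one hz'.symm
  · rw [core_le_iff]
    intro Q hQT hQne g hg
    obtain ⟨a, ha⟩ := exists_prime_orderOf_dvd_card' p (dvd_of_ne_bot (T.isPGroup'.to_le hQT) hQne)
    have ha' : orderOf (a : G) = p := by rw [Subgroup.orderOf_coe, ha]
    have hap : (a : G) ^ p = 1 := orderOf_dvd_iff_pow_eq_one.1 ha'.dvd
    have hzQ : (z : G) ∈ Q :=
      (Subgroup.zpowers_le.2 a.2) (huniq a z (hQT a.2) z.2 ha' hzp)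
    have hgz : g * (z : G) * g⁻¹ ∈ Z := by
      have h1 := (Subgroup.mem_normalizer_iff.1 hg (z : G)).1 hzQ
      exact huniq z _ z.2 (hQT h1) hz' (by rw [conj_pow, hzp]; simp)
    have hle : Z.map (MulAut.conj g).toMonoidHom ≤ Z := by
      rw [hZ, MonoidHom.map_zpowers, Subgroup.zpowers_le]
      exact hgz
    have heq := Subgroup.eq_of_le_of_card_ge hle (le_of_eq (Nat.card_congr
      (Subgroup.equivMapOfInjective _ _ (MulAut.conj g).injective).toEquiv))
    refine Subgroup.mem_normalizer_iff.2 fun y => ⟨fun hy => heq ▸ ⟨y, hy, rfl⟩, fun hy => ?_⟩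
    rw [← heq] at hy
    obtain ⟨w, hw, hwy⟩ := hy
    have hwy' : w = y := (MulAut.conj g).injective hwy
    rwa [← hwy']

theorem unique_of_cyclic (T : Sylow p G) [IsCyclic (T : Subgroup G)] (a b : G)
    (ha : a ∈ (T : Subgroup G)) (hb : b ∈ (T : Subgroup G)) (hord : orderOf a = p)
    (hbp : b ^ p = 1) : b ∈ Subgroup.zpowers a := by
  classical
  haveI : Fintype (T : Subgroup G) := Fintype.ofFinite _
  set S : Finset (T : Subgroup G) := Finset.univ.filter (fun x => x ^ p = 1) with hS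
  have hcard : S.card ≤ p := IsCyclic.card_pow_eq_one_le (Fact.out : p.Prime).pos
  haveI : Fintype (Subgroup.zpowers (⟨a, ha⟩ : (T : Subgroup G))) := Fintype.ofFinite _
  have hsub : (Subgroup.zpowers (⟨a, ha⟩ : (T : Subgroup G)) : Set (T : Subgroup G)).toFinset ⊆ S := by
    intro x hx
    rw [Set.mem_toFinset] at hx
    obtain ⟨k, rfl⟩ := hx
    simp only [hS, Finset.mem_filter, Finset.mem_univ, true_and]
    rw [← zpow_natCast, ← zpow_mul, mul_comm, zpow_mul, zpow_natCast,
      show (⟨a, ha⟩ : (T : Subgroup G)) ^ p = 1 from Subtype.ext (by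
        exact orderOf_dvd_iff_pow_eq_one.1 hord.dvd), one_zpow]
  have heq := Finset.eq_of_subset_of_card_le hsub (by
    refine hcard.trans (le_of_eq ?_)
    rw [Set.toFinset_card, ← Nat.card_eq_fintype_card]
    exact ((Nat.card_zpowers _).trans ((Subgroup.orderOf_mk a ha).trans hord)).symm)
  have hbS : (⟨b, hb⟩ : (T : Subgroup G)) ∈ S := by
    simp only [hS, Finset.mem_filter, Finset.mem_univ, true_and]
    exact Subtype.ext hbp
  rw [← heq, Set.mem_toFinset] at hbS
  obtain ⟨k, hk⟩ := hbS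
  exact ⟨k, congrArg Subtype.val hk⟩

theorem unique_of_quaternion (T : Sylow p G) (hT1 : (T : Subgroup G) ≠ ⊥) {n : ℕ}
    (e : (T : Subgroup G) ≃* QuaternionGroup n) (a b : G)
    (ha : a ∈ (T : Subgroup G)) (hb : b ∈ (T : Subgroup G)) (hord : orderOf a = p)
    (hbp : b ^ p = 1) : b ∈ Subgroup.zpowers a := by
  haveI : Finite (QuaternionGroup n) := Finite.of_equiv _ e.toEquiv
  haveI : NeZero n := ⟨fun h => by
    subst h
    haveI : Finite (ZMod (2 * 0)) :=
      Finite.of_injective (fun i : ZMod (2 * 0) => QuaternionGroup.a i) fun i j h =>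
        QuaternionGroup.a.inj h
    haveI : Infinite (ZMod (2 * 0)) := inferInstanceAs (Infinite ℤ)
    exact not_finite (ZMod (2 * 0))⟩
  have hcard : Nat.card (T : Subgroup G) = 4 * n := by
    rw [Nat.card_congr e.toEquiv, Nat.card_eq_fintype_card, QuaternionGroup.card]
  have hp2 : p = 2 := by
    obtain ⟨k, hk⟩ := IsPGroup.iff_card.1 T.isPGroup'
    rw [hcard] at hk
    have h2 : 2 ∣ p ^ k := ⟨2 * n, by rw [← hk]; ring⟩
    exact ((Nat.prime_dvd_prime_iff_eq Nat.prime_two (Fact.out : p.Prime)).1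
      (Nat.prime_two.dvd_of_dvd_pow h2)).symm
  subst hp2
  have huniq : ∀ y : QuaternionGroup n, y ^ 2 = 1 → y = 1 ∨ y = QuaternionGroup.a (n : ZMod (2 * n)) := by
    intro y hy
    rcases y with i | i
    · rw [pow_two, QuaternionGroup.a_mul_a, QuaternionGroup.one_def] at hy
      have h0 : i + i = 0 := QuaternionGroup.a.inj hy
      have hv : (2 * n) ∣ 2 * i.val := by
        rw [← ZMod.natCast_eq_zero_iff]
        push_cast
        rw [ZMod.natCast_zmod_val]
        exact (two_mul i).trans h0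
      have hn' : n ∣ i.val := (Nat.mul_dvd_mul_iff_left two_pos).1 hv
      obtain ⟨j, hj⟩ := hn'
      have hlt : i.val < 2 * n := ZMod.val_lt i
      have hj2 : j < 2 := by
        by_contra hc
        have : n * 2 ≤ n * j := Nat.mul_le_mul_left n (Nat.le_of_not_lt hc)
        omega
      interval_cases j
      · left
        rw [QuaternionGroup.one_def]
        congr 1
        rw [← ZMod.natCast_zmod_val i, hj, mul_zero, Nat.cast_zero]
      · right
        congr 1
        rw [← ZMod.natCast_zmod_val i, hj, mul_one]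
    · exfalso
      have h4 := QuaternionGroup.orderOf_xa (n := n) i
      have := orderOf_dvd_of_pow_eq_one hy
      rw [h4] at this
      exact absurd (Nat.le_of_dvd two_pos this) (by norm_num)
  have ha2 : (e ⟨a, ha⟩) ^ 2 = 1 := by
    rw [← map_pow]
    have : (⟨a, ha⟩ : (T : Subgroup G)) ^ 2 = 1 := Subtype.ext (by
      exact orderOf_dvd_iff_pow_eq_one.1 hord.dvd)
    rw [this, map_one]
  have ha1 : e ⟨a, ha⟩ ≠ 1 := by
    rw [ne_eq, MulEquiv.map_eq_one_iff]
    intro h
    have : a = 1 := congrArg Subtype.val h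
    rw [this, orderOf_one] at hord
    exact absurd hord (by norm_num)
  have hb2 : (e ⟨b, hb⟩) ^ 2 = 1 := by
    rw [← map_pow, show (⟨b, hb⟩ : (T : Subgroup G)) ^ 2 = 1 from Subtype.ext hbp, map_one]
  rcases huniq _ hb2 with h | h
  · rw [MulEquiv.map_eq_one_iff] at h
    have : b = 1 := congrArg Subtype.val h
    rw [this]; exact one_mem _
  · have h' := ((huniq _ ha2).resolve_left ha1).symm
    rw [h'] at h
    have : b = a := congrArg Subtype.val (e.injective h)
    rw [this]; exact Subgroup.mem_zpowers a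

/-! Centralisers of elements of order `p` -/

theorem sPE_iff_centralizer (H : Subgroup G) (hH : H ≠ ⊤) (S : Sylow p H) :
    Cfsg.IsStronglyPEmbedded p H ↔
      ((∀ x : G, x ∈ (S : Subgroup H).map H.subtype → orderOf x = p →
        Subgroup.centralizer ({x} : Set G) ≤ H) ∧
      Subgroup.normalizer (((S : Subgroup H).map H.subtype : Subgroup G) : Set G) ≤ H) := by
  set T : Subgroup G := (S : Subgroup H).map H.subtype with hT
  have hTH : T ≤ H := Subgroup.map_subtype_le _
  have hTp : IsPGroup p T := S.isPGroup'.map _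
  rw [sPE_iff_conj]
  constructor
  · rintro ⟨-, hpH, hc⟩
    have hn := norm_of_conj hc
    refine ⟨fun x hx hord => ?_, hn T hTH hTp ?_⟩
    · have hzp : IsPGroup p (Subgroup.zpowers x) :=
        IsPGroup.of_card (n := 1) (by rw [Nat.card_zpowers, hord, pow_one])
      refine le_trans ?_ (hn _ (Subgroup.zpowers_le.2 (hTH hx)) hzp
        (by rw [ne_eq, Subgroup.zpowers_eq_bot]; rintro rfl
            rw [orderOf_one] at hord; exact (Fact.out : p.Prime).ne_one hord.symm))
      refine le_trans ?_ (Subgroup.centralizer_le_normalizer _)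
      intro c hc'
      rw [Subgroup.mem_centralizer_singleton_iff] at hc'
      refine Subgroup.mem_centralizer_iff.2 fun t ht => ?_
      obtain ⟨i, rfl⟩ := ht
      exact ((show Commute c x from hc').zpow_right i).eq.symm
    · rw [hT, ne_eq, Subgroup.map_eq_bot_iff_of_injective _ (Subgroup.subtype_injective H)]
      intro h1
      have := S.dvd_card_of_dvd_card hpH
      rw [h1, Subgroup.card_bot, Nat.dvd_one] at this
      exact (Fact.out : p.Prime).ne_one this
  · rintro ⟨hC, hN⟩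
    have hTne : T ≠ ⊥ := by
      intro h
      apply hH
      rw [eq_top_iff]
      refine le_trans ?_ hN
      rw [h]
      exact le_of_eq (Subgroup.normalizer_eq_top (H := (⊥ : Subgroup G))).symm
    have hpH : p ∣ Nat.card H :=
      (dvd_of_ne_bot hTp hTne).trans (Subgroup.card_dvd_of_le hTH)
    -- centralisers of all elements of order `p` of `H`
    have hCall : ∀ y ∈ H, orderOf y = p → Subgroup.centralizer ({y} : Set G) ≤ H := by
      intro y hy hord
      obtain ⟨m, hm, hle⟩ := exists_conj_le H S (Subgroup.zpowers y) (Subgroup.zpowers_le.2 hy)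
        (IsPGroup.of_card (n := 1) (by rw [Nat.card_zpowers, hord, pow_one]))
      have h1 : m * y * m⁻¹ ∈ T := hle ⟨y, Subgroup.mem_zpowers y, rfl⟩
      have h2 := hC _ h1 (by rw [← MulAut.conj_apply, MulEquiv.orderOf_eq, hord])
      intro c hc
      rw [Subgroup.mem_centralizer_singleton_iff] at hc
      have h3 : m * c * m⁻¹ ∈ Subgroup.centralizer ({m * y * m⁻¹} : Set G) := by
        rw [Subgroup.mem_centralizer_singleton_iff]
        calc m * c * m⁻¹ * (m * y * m⁻¹) = m * (c * y) * m⁻¹ := by simp [mul_assoc]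
          _ = m * (y * c) * m⁻¹ := by rw [hc]
          _ = m * y * m⁻¹ * (m * c * m⁻¹) := by simp [mul_assoc]
      have h4 := mul_mem (mul_mem (inv_mem hm) (h2 h3)) hm
      simpa [mul_assoc] using h4
    -- `T` is Sylow in `G`
    obtain ⟨P, hP⟩ : ∃ P : Sylow p G, (P : Subgroup G) = T := by
      obtain ⟨P, hle⟩ := hTp.exists_le_sylow
      refine ⟨P, le_antisymm ?_ hle⟩
      by_contra hne
      haveI : Group.IsNilpotent (P : Subgroup G) := P.isPGroup'.isNilpotent
      have hlt : T.subgroupOf (P : Subgroup G) < ⊤ :=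
        lt_top_iff_ne_top.2 fun h => hne (Subgroup.subgroupOf_eq_top.1 h)
      obtain ⟨x, hxN, hxT⟩ := SetLike.exists_of_lt
        (Group.normalizerCondition_of_isNilpotent _ hlt)
      have hxH : (x : G) ∈ H := by
        refine hN (Subgroup.mem_normalizer_iff.2 fun y => ⟨fun hy => ?_, fun hy => ?_⟩)
        · exact (Subgroup.mem_normalizer_iff.1 hxN ⟨y, hle hy⟩).1 hy
        · have hyP : y ∈ (P : Subgroup G) := by
            have := mul_mem (mul_mem (inv_mem x.2) (hle hy)) x.2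
            simpa [mul_assoc] using this
          exact (Subgroup.mem_normalizer_iff.1 hxN ⟨y, hyP⟩).2 hy
      have hmax := S.is_maximal'
        (P.isPGroup'.comap_of_injective H.subtype (Subgroup.subtype_injective H))
        (fun s hs => hle ⟨s, hs, rfl⟩)
      apply hxT
      show (x : G) ∈ T
      refine ⟨⟨x, hxH⟩, ?_, rfl⟩
      rw [← hmax]
      exact x.2
    refine ⟨hH, hpH, fun g hg hd => hg ?_⟩
    obtain ⟨y, hy⟩ := exists_prime_orderOf_dvd_card' p hd
    have hy' : orderOf (y : G) = p := by rw [Subgroup.orderOf_coe, hy]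
    -- a central element of order `p` of a Sylow subgroup containing `y`
    obtain ⟨m, hm, hle⟩ := exists_conj_le H S (Subgroup.zpowers (y : G))
      (Subgroup.zpowers_le.2 y.2.1)
      (IsPGroup.of_card (n := 1) (by rw [Nat.card_zpowers, hy', pow_one]))
    have hyT : m * (y : G) * m⁻¹ ∈ T := hle ⟨y, Subgroup.mem_zpowers _, rfl⟩
    haveI : Nontrivial T := (Subgroup.nontrivial_iff_ne_bot _).2 hTne
    haveI := hTp.center_nontrivial
    have hdZ : p ∣ Nat.card (Subgroup.center T) :=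
      dvd_of_ne_bot (G := T) (hTp.to_subgroup _) ((Subgroup.nontrivial_iff_ne_bot _).1 inferInstance)
    obtain ⟨z, hz⟩ := exists_prime_orderOf_dvd_card' p hdZ
    set z0 : G := ((z : T) : G) with hz0
    have hz0ord : orderOf z0 = p := by rw [hz0, Subgroup.orderOf_coe, Subgroup.orderOf_coe, hz]
    set z1 : G := m⁻¹ * z0 * m with hz1
    have hz1H : z1 ∈ H := mul_mem (mul_mem (inv_mem hm) (hTH (z : T).2)) hm
    have hcomm : (y : G) * z1 = z1 * y := by
      have h1 := congrArg Subtype.val (Subgroup.mem_center_iff.1 z.2 (⟨_, hyT⟩ : T))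
      have h2 := congrArg (fun u => m⁻¹ * u * m) h1
      simpa [hz1, hz0, mul_assoc] using h2
    set y' : G := g⁻¹ * y * g with hy'def
    have hy'H : y' ∈ H := mem_conj_iff.1 y.2.2
    have hy'ord : orderOf y' = p := by
      have : y' = MulAut.conj g⁻¹ (y : G) := by simp [hy'def, mul_assoc]
      rw [this, MulEquiv.orderOf_eq, hy']
    set z2 : G := g⁻¹ * z1 * g with hz2
    have hz2H : z2 ∈ H := by
      refine hCall y' hy'H hy'ord ?_
      rw [Subgroup.mem_centralizer_singleton_iff]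
      calc z2 * y' = g⁻¹ * (z1 * y) * g := by simp [hz2, hy'def, mul_assoc]
        _ = g⁻¹ * (y * z1) * g := by rw [hcomm]
        _ = y' * z2 := by simp [hz2, hy'def, mul_assoc]
    have hz2ord : orderOf z2 = p := by
      have : z2 = MulAut.conj (g⁻¹ * m⁻¹) z0 := by simp [hz2, hz1, mul_assoc]
      rw [this, MulEquiv.orderOf_eq, hz0ord]
    have hC2 := hCall z2 hz2H hz2ord
    set k : G := g⁻¹ * m⁻¹ with hk
    have hconjT : ((k • P : Sylow p G) : Subgroup G) ≤ H := by
      rintro _ ⟨t, ht, rfl⟩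
      refine hC2 ?_
      rw [Subgroup.mem_centralizer_singleton_iff]
      rw [hP] at ht
      have h1 := congrArg Subtype.val (Subgroup.mem_center_iff.1 z.2 (⟨t, ht⟩ : T))
      have h2 : t * z0 = z0 * t := h1
      show k * t * k⁻¹ * z2 = z2 * (k * t * k⁻¹)
      calc k * t * k⁻¹ * z2 = k * (t * z0) * k⁻¹ := by simp [hz2, hz1, hk, mul_assoc]
        _ = k * (z0 * t) * k⁻¹ := by rw [h2]
        _ = z2 * (k * t * k⁻¹) := by simp [hz2, hz1, hk, mul_assoc]
    have hPH : (P : Subgroup G) ≤ H := hP ▸ hTH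
    obtain ⟨c, hc⟩ := MulAction.exists_smul_eq H ((k • P).subtype hconjT) (P.subtype hPH)
    have h5 : (c • (k • P)).subtype (Sylow.smul_le hconjT c) = P.subtype hPH := by
      rw [← Sylow.smul_subtype]; exact hc
    have h6 : ((c : G) * k) • P = P := by rw [mul_smul]; exact Sylow.subtype_injective h5
    have h6' : (c : G) * k ∈ Subgroup.normalizer ((P : Subgroup G) : Set G) :=
      Sylow.smul_eq_iff_mem_normalizer.1 h6
    rw [hP] at h6'
    have h7 := mul_mem (mul_mem (inv_mem c.2) (hN h6')) hm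
    rw [hk] at h7
    simpa [mul_assoc] using h7

theorem mem_of_conj_mem {H : Subgroup G} {x : G} (hC : Subgroup.centralizer ({x} : Set G) ≤ H)
    (hfus : ∀ g : G, g * x * g⁻¹ ∈ H → ∃ h ∈ H, h * x * h⁻¹ = g * x * g⁻¹) {g : G}
    (hg : g * x * g⁻¹ ∈ H) : g ∈ H := by
  obtain ⟨h, hh, hgh⟩ := hfus g hg
  have h1 : h⁻¹ * g ∈ H := by
    refine hC (Subgroup.mem_centralizer_singleton_iff.2 ?_)
    have h2 := congrArg (fun u => h⁻¹ * u * g) hgh
    simpa [mul_assoc] using h2.symm
  simpa using mul_mem hh h1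

theorem local_le_of_pCentral (H : Subgroup G) (x : G) (hxH : x ∈ H) (hxp : orderOf x = p)
    (hx : Cfsg.IsPCentral p x) (hC : Subgroup.centralizer ({x} : Set G) ≤ H)
    (hfus : ∀ g : G, g * x * g⁻¹ ∈ H → ∃ h ∈ H, h * x * h⁻¹ = g * x * g⁻¹)
    (E : Subgroup G) (hEH : E ≤ H) (hE : IsPGroup p E)
    (hchar : Subgroup.centralizer
        (Cfsg.pCore p ↥(Subgroup.normalizer (E : Set G)) : Set ↥(Subgroup.normalizer (E : Set G))) ≤
      Cfsg.pCore p ↥(Subgroup.normalizer (E : Set G))) :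
    Subgroup.normalizer (E : Set G) ≤ H := by
  obtain ⟨-, S, hS⟩ := hx
  have hSH : (S : Subgroup G) ≤ H := hS.trans hC
  set M : Subgroup G := Subgroup.normalizer (E : Set G) with hM
  obtain ⟨R, hR⟩ := (hE.comap_of_injective (H ⊓ M).subtype (Subgroup.subtype_injective _) :
    IsPGroup p (E.subgroupOf (H ⊓ M))).exists_le_sylow
  set R' : Subgroup G := (R : Subgroup ↥(H ⊓ M)).map (H ⊓ M).subtype with hR'
  have hR'le : R' ≤ H ⊓ M := Subgroup.map_subtype_le _
  have hER : E ≤ R' := fun e he =>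
    ⟨⟨e, hEH he, Subgroup.le_normalizer he⟩, hR (x := ⟨e, hEH he, Subgroup.le_normalizer he⟩) he,
      rfl⟩
  obtain ⟨h, hh, hle⟩ := exists_conj_le H (S.subtype hSH) R' (hR'le.trans inf_le_left)
    (R.isPGroup'.map _)
  rw [Sylow.coe_subtype, Subgroup.subgroupOf_map_subtype] at hle
  set x1 : G := h⁻¹ * x * h with hx1
  have hx1H : x1 ∈ H := mul_mem (mul_mem (inv_mem hh) hxH) hh
  have hx1c : ∀ r ∈ R', r * x1 = x1 * r := by
    intro r hr
    have h1 := hS (hle ⟨r, hr, rfl⟩).1
    rw [Subgroup.mem_centralizer_singleton_iff] at h1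
    have h2 := congrArg (fun u => h⁻¹ * u * h) h1
    simpa [hx1, mul_assoc] using h2
  have hx1M : x1 ∈ M := by
    refine Subgroup.centralizer_le_normalizer _ (Subgroup.mem_centralizer_iff.2 fun e he => ?_)
    exact hx1c e (hER he)
  have hx1R : x1 ∈ R' := by
    have hx1p : IsPGroup p (Subgroup.zpowers (⟨x1, hx1H, hx1M⟩ : ↥(H ⊓ M))) := by
      refine IsPGroup.of_card (n := 1) ?_
      rw [Nat.card_zpowers, ← Subgroup.orderOf_coe, pow_one]
      show orderOf x1 = p
      rw [hx1, show h⁻¹ * x * h = MulAut.conj h⁻¹ x by simp, MulEquiv.orderOf_eq, hxp]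
    have hnorm : (R : Subgroup ↥(H ⊓ M)) ≤
        Subgroup.normalizer (Subgroup.zpowers (⟨x1, hx1H, hx1M⟩ : ↥(H ⊓ M)) : Set ↥(H ⊓ M)) := by
      refine le_trans ?_ (Subgroup.centralizer_le_normalizer _)
      intro r hr
      refine Subgroup.mem_centralizer_iff.2 fun t ht => ?_
      obtain ⟨i, rfl⟩ := ht
      have hc : Commute r (⟨x1, hx1H, hx1M⟩ : ↥(H ⊓ M)) :=
        Subtype.ext (hx1c r ⟨r, hr, rfl⟩)
      exact (hc.zpow_right i).eq.symm
    have hsup := IsPGroup.to_sup_of_normal_right' R.isPGroup' hx1p hnorm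
    have heq := R.is_maximal' hsup le_sup_left
    exact ⟨_, heq.le (Subgroup.mem_sup_right (Subgroup.mem_zpowers _)), rfl⟩
  -- `R'` is a Sylow subgroup of `M`
  obtain ⟨RM, hRM⟩ : ∃ RM : Sylow p M, (RM : Subgroup M).map M.subtype = R' := by
    obtain ⟨RM, hle'⟩ := ((R.isPGroup'.map (H ⊓ M).subtype).comap_of_injective M.subtype
      (Subgroup.subtype_injective M) : IsPGroup p (R'.subgroupOf M)).exists_le_sylow
    refine ⟨RM, le_antisymm ?_ fun r hr =>
      ⟨⟨r, (hR'le hr).2⟩, hle' (x := ⟨r, (hR'le hr).2⟩) hr, rfl⟩⟩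
    by_contra hne
    haveI : Group.IsNilpotent (RM : Subgroup M) := RM.isPGroup'.isNilpotent
    have hlt : (R'.subgroupOf M).subgroupOf (RM : Subgroup M) < ⊤ := by
      refine lt_top_iff_ne_top.2 fun h1 => hne ?_
      rintro _ ⟨r, hr, rfl⟩
      exact (Subgroup.subgroupOf_eq_top.1 h1) hr
    obtain ⟨n, hnN, hnR⟩ := SetLike.exists_of_lt
      (Group.normalizerCondition_of_isNilpotent _ hlt)
    have hn1 : ((n : M) : G) * x1 * ((n : M) : G)⁻¹ ∈ R' := by
      have := (Subgroup.mem_normalizer_iff.1 hnN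
        ⟨⟨x1, hx1M⟩, hle' (x := ⟨x1, hx1M⟩) hx1R⟩).1 hx1R
      exact this
    have hnH : ((n : M) : G) ∈ H := by
      have hgx : ((n : M) : G) * h⁻¹ ∈ H := by
        refine mem_of_conj_mem hC hfus ?_
        have h2 : ((n : M) : G) * h⁻¹ * x * (((n : M) : G) * h⁻¹)⁻¹ =
            ((n : M) : G) * x1 * ((n : M) : G)⁻¹ := by simp [hx1, mul_assoc]
        rw [h2]
        exact (hR'le hn1).1
      simpa using mul_mem hgx hh
    have hmax := R.is_maximal' ((RM.isPGroup'.map M.subtype).comap_of_injective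
      (H ⊓ M).subtype (Subgroup.subtype_injective _))
      (fun r hr => ⟨⟨r, r.2.2⟩, hle' (x := ⟨r, r.2.2⟩) ⟨r, hr, rfl⟩, rfl⟩)
    apply hnR
    show ((n : M) : G) ∈ R'
    refine ⟨⟨_, hnH, (n : M).2⟩, ?_, rfl⟩
    rw [← hmax]
    exact ⟨(n : M), n.2, rfl⟩
  have hx1O : (⟨x1, hx1M⟩ : M) ∈ Cfsg.pCore p M := by
    refine hchar (Subgroup.mem_centralizer_iff.2 fun o ho => Subtype.ext ?_)
    have hoR : (o : G) ∈ R' := by
      rw [← hRM]
      haveI : (Cfsg.pCore p M).Normal := Subgroup.sSup_normal _ (fun _ h => h.1)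
      have hle2 : Cfsg.pCore p M ≤ (RM : Subgroup M) := by
        refine sSup_le fun N hN => ?_
        haveI := hN.1
        have hsup := IsPGroup.to_sup_of_normal_right' RM.isPGroup' hN.2
          (by rw [Subgroup.normalizer_eq_top]; exact le_top)
        exact (le_sup_right).trans (RM.is_maximal' hsup le_sup_left).le
      exact ⟨o, hle2 ho, rfl⟩
    exact hx1c o hoR
  intro m hm
  haveI : (Cfsg.pCore p M).Normal := Subgroup.sSup_normal _ (fun _ h => h.1)
  have hconj := (inferInstance : (Cfsg.pCore p M).Normal).conj_mem _ hx1O ⟨m, hm⟩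
  have hOR : (m * x1 * m⁻¹) ∈ R' := by
    rw [← hRM]
    refine ⟨(⟨m, hm⟩ : M) * ⟨x1, hx1M⟩ * (⟨m, hm⟩ : M)⁻¹, ?_, rfl⟩
    refine (sSup_le fun N hN => ?_ : Cfsg.pCore p M ≤ (RM : Subgroup M)) hconj
    haveI := hN.1
    have hsup := IsPGroup.to_sup_of_normal_right' RM.isPGroup' hN.2
      (by rw [Subgroup.normalizer_eq_top]; exact le_top)
    exact (le_sup_right).trans (RM.is_maximal' hsup le_sup_left).le
  have hgx : m * h⁻¹ ∈ H := by
    refine mem_of_conj_mem hC hfus ?_
    have h2 : m * h⁻¹ * x * (m * h⁻¹)⁻¹ = m * x1 * m⁻¹ := by simp [hx1, mul_assoc]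
    rw [h2]
    exact (hR'le hOR).1
  simpa using mul_mem hgx hh

theorem involution_fusion (hp : p ≠ 2) (H : Subgroup G) (hH : Cfsg.IsStronglyPEmbedded p H)
    (hdiv : ∀ t : G, t ∈ H → orderOf t = 2 →
      p ∣ Nat.card ↥(H ⊓ Subgroup.centralizer ({t} : Set G)))
    (t : G) (ht : t ∈ H) (ht2 : orderOf t = 2) (g : G) (hg : g * t * g⁻¹ ∈ H) :
    ∃ h ∈ H, h * t * h⁻¹ = g * t * g⁻¹ := by
  rw [sPE_iff_norm] at hH
  obtain ⟨-, -, hN⟩ := hH
  set t' : G := g * t * g⁻¹ with ht'
  have ht'2 : orderOf t' = 2 := by rw [ht', ← MulAut.conj_apply, MulEquiv.orderOf_eq, ht2]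
  set C : Subgroup G := Subgroup.centralizer ({t'} : Set G) with hC
  obtain ⟨R⟩ : Nonempty (Sylow p ↥(H ⊓ Subgroup.centralizer ({t} : Set G))) := inferInstance
  obtain ⟨R2⟩ : Nonempty (Sylow p ↥(H ⊓ C)) := inferInstance
  set A : Subgroup G := (R2 : Subgroup ↥(H ⊓ C)).map (H ⊓ C).subtype with hA
  have hAle : A ≤ H ⊓ C := Subgroup.map_subtype_le _
  have hAne : A ≠ ⊥ := by
    rw [hA, ne_eq, Subgroup.map_eq_bot_iff_of_injective _ (Subgroup.subtype_injective _)]
    intro h1
    have := R2.dvd_card_of_dvd_card (hdiv t' hg ht'2)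
    rw [h1, Subgroup.card_bot, Nat.dvd_one] at this
    exact (Fact.out : p.Prime).ne_one this
  -- `A` is Sylow in `C`
  obtain ⟨AC, hAC⟩ : ∃ AC : Sylow p C, (AC : Subgroup C).map C.subtype = A := by
    obtain ⟨AC, hle⟩ := ((R2.isPGroup'.map (H ⊓ C).subtype).comap_of_injective C.subtype
      (Subgroup.subtype_injective C) : IsPGroup p (A.subgroupOf C)).exists_le_sylow
    refine ⟨AC, le_antisymm ?_ fun r hr => ⟨⟨r, (hAle hr).2⟩, hle (x := ⟨r, (hAle hr).2⟩) hr, rfl⟩⟩
    by_contra hne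
    haveI : Group.IsNilpotent (AC : Subgroup C) := AC.isPGroup'.isNilpotent
    have hlt : (A.subgroupOf C).subgroupOf (AC : Subgroup C) < ⊤ := by
      refine lt_top_iff_ne_top.2 fun h1 => hne ?_
      rintro _ ⟨r, hr, rfl⟩
      exact (Subgroup.subgroupOf_eq_top.1 h1) hr
    obtain ⟨n, hnN, hnA⟩ := SetLike.exists_of_lt (Group.normalizerCondition_of_isNilpotent _ hlt)
    have hnH : ((n : C) : G) ∈ H := by
      refine hN A (hAle.trans inf_le_left) (R2.isPGroup'.map _) hAne
        (Subgroup.mem_normalizer_iff.2 fun y => ⟨fun hy => ?_, fun hy => ?_⟩)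
      · exact (Subgroup.mem_normalizer_iff.1 hnN
          ⟨⟨y, (hAle hy).2⟩, hle (x := ⟨y, (hAle hy).2⟩) hy⟩).1 hy
      · have hyC : y ∈ C := by
          have := mul_mem (mul_mem (inv_mem (n : C).2) (hAle hy).2) (n : C).2
          simpa [mul_assoc] using this
        have hyAC : (⟨y, hyC⟩ : C) ∈ (AC : Subgroup C) := by
          have h3 : (⟨((n : C) : G) * y * ((n : C) : G)⁻¹, (hAle hy).2⟩ : C) ∈ (AC : Subgroup C) :=
            hle (x := ⟨_, (hAle hy).2⟩) hy
          have h4 := mul_mem (mul_mem (inv_mem n.2) h3) n.2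
          have h5 : (n : C)⁻¹ * ⟨((n : C) : G) * y * ((n : C) : G)⁻¹, (hAle hy).2⟩ * (n : C) =
              (⟨y, hyC⟩ : C) := Subtype.ext (by simp [mul_assoc])
          rwa [h5] at h4
        exact (Subgroup.mem_normalizer_iff.1 hnN ⟨⟨y, hyC⟩, hyAC⟩).2 hy
    have hmax := R2.is_maximal' ((AC.isPGroup'.map C.subtype).comap_of_injective
      (H ⊓ C).subtype (Subgroup.subtype_injective _))
      (fun r hr => ⟨⟨r, r.2.2⟩, hle (x := ⟨r, r.2.2⟩) ⟨r, hr, rfl⟩, rfl⟩)
    apply hnA
    show ((n : C) : G) ∈ A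
    refine ⟨⟨_, hnH, (n : C).2⟩, ?_, rfl⟩
    rw [← hmax]
    exact ⟨(n : C), n.2, rfl⟩
  set B : Subgroup G := (R : Subgroup ↥(H ⊓ Subgroup.centralizer ({t} : Set G))).map
    (H ⊓ Subgroup.centralizer ({t} : Set G)).subtype with hB
  have hBle : B ≤ H ⊓ Subgroup.centralizer ({t} : Set G) := Subgroup.map_subtype_le _
  have hBne : B ≠ ⊥ := by
    rw [hB, ne_eq, Subgroup.map_eq_bot_iff_of_injective _ (Subgroup.subtype_injective _)]
    intro h1
    have := R.dvd_card_of_dvd_card (hdiv t ht ht2)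
    rw [h1, Subgroup.card_bot, Nat.dvd_one] at this
    exact (Fact.out : p.Prime).ne_one this
  have hBC : B.map (MulAut.conj g).toMonoidHom ≤ C := by
    rintro _ ⟨b, hb, rfl⟩
    have h1 := Subgroup.mem_centralizer_singleton_iff.1 (hBle hb).2
    rw [hC, Subgroup.mem_centralizer_singleton_iff]
    show g * b * g⁻¹ * t' = t' * (g * b * g⁻¹)
    calc g * b * g⁻¹ * t' = g * (b * t) * g⁻¹ := by simp [ht', mul_assoc]
      _ = g * (t * b) * g⁻¹ := by rw [h1]
      _ = t' * (g * b * g⁻¹) := by simp [ht', mul_assoc]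
  obtain ⟨c, hc, hcle⟩ := exists_conj_le C AC _ hBC ((R.isPGroup'.map _).map _)
  rw [hAC] at hcle
  obtain ⟨b, hb⟩ := exists_prime_orderOf_dvd_card' p (dvd_of_ne_bot (R.isPGroup'.map _) hBne)
  have hbmem : c * g * (b : G) * (c * g)⁻¹ ∈ H := by
    have := (hAle (hcle ⟨_, ⟨(b : G), b.2, rfl⟩, rfl⟩)).1
    simpa [mul_assoc] using this
  have hcg : c * g ∈ H := by
    by_contra hne
    refine conj_of_norm hN (c * g) hne ?_
    have hmem : c * g * (b : G) * (c * g)⁻¹ ∈ H ⊓ H.map (MulAut.conj (c * g)).toMonoidHom :=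
      Subgroup.mem_inf.2 ⟨hbmem, ⟨b, (hBle b.2).1, rfl⟩⟩
    have := Subgroup.orderOf_dvd_natCard _ hmem
    rwa [← MulAut.conj_apply, MulEquiv.orderOf_eq, Subgroup.orderOf_coe, hb] at this
  refine ⟨c * g, hcg, ?_⟩
  rw [hC, Subgroup.mem_centralizer_singleton_iff] at hc
  calc c * g * t * (c * g)⁻¹ = c * t' * c⁻¹ := by simp [ht', mul_assoc]
    _ = t' := by rw [hc, mul_inv_cancel_right]

end Cfsg.Lib.Embedded
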