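import Mathlib
import Cfsg.Agent.Components.Embedded.Basic
import Cfsg.Agent.Transfer.Basic
import Cfsg.Prelude.Def_SylowChains
import Cfsg.Prelude.Def_SylowControl
import Cfsg.Prelude.Def_Balance
import Cfsg.Prelude.Def_PLocal

/-! Sylow-chain connectivity and `1`-connectivity. -/

set_option linter.style.haveILetI false
set_option linter.unusedSectionVars false

namespace Cfsg.Lib.Embedded

open scoped Pointwise

variable {G : Type*} [Group G] [Finite G] {p : ℕ} [Fact p.Prime]

/-- Two Sylow subgroups meeting nontrivially. -/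
def Meets (S T : Sylow p G) : Prop := (S : Subgroup G) ⊓ (T : Subgroup G) ≠ ⊥

theorem connected_iff :
    Cfsg.IsSylowChainConnected p G ↔ ∀ S T : Sylow p G, Relation.ReflTransGen Meets S T := by
  constructor
  · intro h S T
    obtain ⟨n, c, h0, hn, -, hstep⟩ := h S T
    have key : ∀ i : Fin (n + 1), Relation.ReflTransGen Meets (c 0) (c i) := by
      intro i
      induction i using Fin.induction with
      | zero => exact Relation.ReflTransGen.refl
      | succ i ih => exact ih.tail (hstep i).2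
    have := key (Fin.last n)
    rwa [h0, hn] at this
  · intro h S T
    classical
    by_cases hST : S = T
    · exact ⟨0, fun _ => S, rfl, hST, fun _ => inf_le_left, fun i => i.elim0⟩
    by_cases hm : Meets S T
    · refine ⟨1, ![S, T], rfl, rfl, fun i => ?_, fun i => ?_⟩
      · fin_cases i
        · exact inf_le_left
        · exact inf_le_right
      · fin_cases i
        exact ⟨hST, hm⟩
    · have hbot : (S : Subgroup G) ⊓ (T : Subgroup G) = ⊥ := not_not.1 hm
      have key : ∀ U, Relation.ReflTransGen Meets S U → ∃ (n : ℕ) (c : Fin (n + 1) → Sylow p G),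
          c 0 = S ∧ c (Fin.last n) = U ∧ ∀ i : Fin n, c i.castSucc ≠ c i.succ ∧
            (c i.castSucc : Subgroup G) ⊓ (c i.succ : Subgroup G) ≠ ⊥ := by
        intro U hU
        induction hU with
        | refl => exact ⟨0, fun _ => S, rfl, rfl, fun i => i.elim0⟩
        | @tail U V _ hUV ih =>
          obtain ⟨n, c, h0, hn, hstep⟩ := ih
          by_cases he : U = V
          · subst he; exact ⟨n, c, h0, hn, hstep⟩
          refine ⟨n + 1, Fin.snoc c V, ?_, Fin.snoc_last _ _, fun i => ?_⟩
          · rw [← Fin.castSucc_zero, Fin.snoc_castSucc]; exact h0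
          · refine Fin.lastCases ?_ (fun j => ?_) i
            · rw [Fin.succ_last, Fin.snoc_last, Fin.snoc_castSucc, hn]
              exact ⟨he, hUV⟩
            · rw [Fin.succ_castSucc, Fin.snoc_castSucc, Fin.snoc_castSucc]
              exact hstep j
      obtain ⟨n, c, h0, hn, hstep⟩ := key T (h S T)
      exact ⟨n, c, h0, hn, fun i => by rw [hbot]; exact bot_le, hstep⟩

theorem meets_smul (g : G) {S T : Sylow p G} (h : Meets S T) : Meets (g • S) (g • T) := by
  intro hb
  apply h
  rw [eq_bot_iff]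
  intro x hx
  have hmem : g * x * g⁻¹ ∈ ((g • S : Sylow p G) : Subgroup G) ⊓ (g • T : Sylow p G) :=
    ⟨⟨x, hx.1, rfl⟩, ⟨x, hx.2, rfl⟩⟩
  rw [hb, Subgroup.mem_bot] at hmem
  simpa using hmem

theorem rel_smul (g : G) {S T : Sylow p G} (h : Relation.ReflTransGen Meets S T) :
    Relation.ReflTransGen Meets (g • S) (g • T) := by
  induction h with
  | refl => exact Relation.ReflTransGen.refl
  | tail _ hUV ih => exact ih.tail (meets_smul g hUV)

theorem rel_symm {S T : Sylow p G} (h : Relation.ReflTransGen Meets S T) :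
    Relation.ReflTransGen Meets T S := by
  induction h with
  | refl => exact Relation.ReflTransGen.refl
  | tail _ hUV ih => exact Relation.ReflTransGen.head (by rwa [Meets, inf_comm]) ih

theorem exists_conjCond_of_not_connected (h : ¬ Cfsg.IsSylowChainConnected p G) :
    ∃ H : Subgroup G, H ≠ ⊤ ∧ p ∣ Nat.card H ∧ ConjCond p H := by
  rw [connected_iff] at h
  push Not at h
  obtain ⟨S, T₀, hST⟩ := h
  have hdG : p ∣ Nat.card G := by
    by_contra hd
    apply hST
    have hbot : ∀ U : Sylow p G, (U : Subgroup G) = ⊥ := fun U => by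
      by_contra hne
      exact hd ((dvd_of_ne_bot U.isPGroup' hne).trans (Subgroup.card_subgroup_dvd_card _))
    rw [show T₀ = S from Sylow.ext ((hbot T₀).trans (hbot S).symm)]
  have hne : ∀ U : Sylow p G, (U : Subgroup G) ≠ ⊥ := fun U =>
    ne_bot_of_dvd (U.dvd_card_of_dvd_card hdG)
  let H : Subgroup G :=
    { carrier := {g : G | Relation.ReflTransGen Meets S (g • S)}
      one_mem' := by show Relation.ReflTransGen Meets S ((1 : G) • S); rw [one_smul]
      mul_mem' := fun {a b} ha hb => by
        show Relation.ReflTransGen Meets S ((a * b) • S)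
        rw [mul_smul]
        exact ha.trans (rel_smul a hb)
      inv_mem' := fun {a} ha => by
        show Relation.ReflTransGen Meets S (a⁻¹ • S)
        have := rel_smul a⁻¹ (rel_symm ha)
        rwa [inv_smul_smul] at this }
  have hSH : (S : Subgroup G) ≤ H := fun x hx => by
    show Relation.ReflTransGen Meets S (x • S)
    rw [Sylow.smul_eq_iff_mem_normalizer.2 (Subgroup.le_normalizer hx)]
  refine ⟨H, fun htop => ?_, (S.dvd_card_of_dvd_card hdG).trans (Subgroup.card_dvd_of_le hSH),
    fun g hg hd => hg ?_⟩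
  · obtain ⟨g, hg⟩ := MulAction.exists_smul_eq G S T₀
    have : g ∈ H := by rw [htop]; trivial
    exact hST (hg ▸ this)
  · obtain ⟨x, hx⟩ := exists_prime_orderOf_dvd_card' p hd
    have hx' : orderOf (x : G) = p := by rw [Subgroup.orderOf_coe, hx]
    have hxp : IsPGroup p (Subgroup.zpowers (x : G)) :=
      IsPGroup.of_card (n := 1) (by rw [Nat.card_zpowers, hx', pow_one])
    obtain ⟨T, hT⟩ := hxp.exists_le_sylow
    have hxT : (x : G) ∈ (T : Subgroup G) := hT (Subgroup.mem_zpowers _)
    have hxne : (x : G) ≠ 1 := by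
      intro h1; rw [h1, orderOf_one] at hx'; exact (Fact.out : p.Prime).ne_one hx'.symm
    -- `T` is linked to `S` through `x`
    have key : ∀ k : G, (k⁻¹ * (x : G) * k) ∈ H → Relation.ReflTransGen Meets (k • S) T := by
      intro k hk
      obtain ⟨m, hm, hle⟩ := exists_conj_le H (S.subtype hSH) (Subgroup.zpowers (k⁻¹ * (x : G) * k))
        (Subgroup.zpowers_le.2 hk) (by
          refine IsPGroup.of_card (n := 1) ?_
          rw [Nat.card_zpowers, pow_one, show k⁻¹ * (x : G) * k = MulAut.conj k⁻¹ (x : G) by simp,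
            MulEquiv.orderOf_eq, hx'])
      rw [Sylow.coe_subtype, Subgroup.subgroupOf_map_subtype] at hle
      have h1 : m * (k⁻¹ * (x : G) * k) * m⁻¹ ∈ (S : Subgroup G) :=
        (hle ⟨_, Subgroup.mem_zpowers _, rfl⟩).1
      have h2 : Meets ((k * m⁻¹) • S) T := by
        intro hb
        have hmem : (x : G) ∈ (((k * m⁻¹) • S : Sylow p G) : Subgroup G) ⊓ T :=
          ⟨⟨_, h1, by simp [mul_assoc]⟩, hxT⟩
        rw [hb, Subgroup.mem_bot] at hmem
        exact hxne hmem
      have h3 : Relation.ReflTransGen Meets (k • S) ((k * m⁻¹) • S) := by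
        rw [mul_smul]
        exact rel_smul k (inv_mem hm : m⁻¹ ∈ H)
      exact h3.tail h2
    have hA := key 1 (by simpa using x.2.1)
    have hB := key g (by
      have := mem_conj_iff.1 x.2.2
      exact this)
    rw [one_smul] at hA
    exact hA.trans (rel_symm hB)

theorem not_connected_of_conjCond {H : Subgroup G} (hH : H ≠ ⊤) (hp : p ∣ Nat.card H)
    (hc : ConjCond p H) : ¬ Cfsg.IsSylowChainConnected p G := by
  rw [connected_iff]
  intro h
  obtain ⟨S⟩ : Nonempty (Sylow p H) := inferInstance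
  obtain ⟨P, hP⟩ := exists_sylow hp (norm_of_conj hc) S
  have hPH : (P : Subgroup G) ≤ H := hP ▸ Subgroup.map_subtype_le _
  have key : ∀ T, Relation.ReflTransGen Meets P T → (T : Subgroup G) ≤ H := by
    intro T hT
    induction hT with
    | refl => exact hPH
    | @tail U V _ hUV ih =>
      obtain ⟨g, rfl⟩ := MulAction.exists_smul_eq G P V
      have hg : g ∈ H := by
        by_contra hg
        refine hc g hg ((dvd_of_ne_bot (U.isPGroup'.to_le inf_le_left) hUV).trans
          (Subgroup.card_dvd_of_le (le_inf (inf_le_left.trans ih) (inf_le_right.trans ?_))))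
        exact Subgroup.map_mono hPH
      exact map_conj_le_of_mem hg hPH
  obtain ⟨g, hg⟩ : ∃ g, g ∉ H := by
    by_contra hc'
    push Not at hc'
    exact hH (eq_top_iff.2 fun g _ => hc' g)
  have hle := key (g • P) (h P (g • P))
  refine hc g hg ((dvd_of_ne_bot (g • P).isPGroup' ?_).trans
    (Subgroup.card_dvd_of_le (le_inf hle (Subgroup.map_mono hPH))))
  exact ne_bot_of_dvd ((g • P).dvd_card_of_dvd_card (hp.trans (Subgroup.card_subgroup_dvd_card H)))

theorem not_connected_iff :
    ¬ Cfsg.IsSylowChainConnected p G ↔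
      ∃ H : Subgroup G, H ≠ ⊤ ∧ p ∣ Nat.card H ∧ ConjCond p H :=
  ⟨exists_conjCond_of_not_connected, fun ⟨_, h1, h2, h3⟩ => not_connected_of_conjCond h1 h2 h3⟩

/-! 1-connectivity -/

/-- Commuting elements of order `p`. -/
def Commutes1 (p : ℕ) (a b : G) : Prop := orderOf a = p ∧ orderOf b = p ∧ Commute a b

theorem exists_orderOf_of_le {E : Subgroup G} (h : p ^ 1 ≤ Nat.card E)
    (hE : Cfsg.IsElementaryAbelian p E) : ∃ a ∈ E, orderOf a = p := by
  rw [pow_one] at h
  haveI : Nontrivial E := Finite.one_lt_card_iff_nontrivial.1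
    (lt_of_lt_of_le (Fact.out : p.Prime).one_lt h)
  obtain ⟨⟨a, ha⟩, hne⟩ := exists_ne (1 : E)
  exact ⟨a, ha, orderOf_eq_prime (hE.2 a ha) fun h1 => hne (Subtype.ext h1)⟩

theorem isElem_zpowers {a : G} (ha : orderOf a = p) :
    Cfsg.IsElementaryAbelian p (Subgroup.zpowers a) ∧ p ^ 1 ≤ Nat.card (Subgroup.zpowers a) := by
  refine ⟨⟨inferInstance, fun x hx => ?_⟩, by rw [pow_one, Nat.card_zpowers, ha]⟩
  obtain ⟨k, rfl⟩ := hx
  show (a ^ k) ^ p = 1
  rw [← zpow_natCast, ← zpow_mul, mul_comm, zpow_mul, zpow_natCast,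
    orderOf_dvd_iff_pow_eq_one.1 ha.dvd, one_zpow]

theorem isKConnected_one_iff :
    Cfsg.IsKConnected p 1 G ↔
      ∀ a b : G, orderOf a = p → orderOf b = p → Relation.ReflTransGen (Commutes1 p) a b := by
  constructor
  · intro h a b ha hb
    have key : ∀ E, Relation.ReflTransGen (fun A B : Subgroup G => Cfsg.IsElementaryAbelian p A ∧
        p ^ 1 ≤ Nat.card A ∧ Cfsg.IsElementaryAbelian p B ∧ p ^ 1 ≤ Nat.card B ∧
        ∀ x ∈ A, ∀ y ∈ B, x * y = y * x) (Subgroup.zpowers a) E →
        ∀ c ∈ E, orderOf c = p → Relation.ReflTransGen (Commutes1 p) a c := by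
      intro E hE
      induction hE with
      | refl =>
        intro c hc hcp
        obtain ⟨k, rfl⟩ := hc
        exact Relation.ReflTransGen.single ⟨ha, hcp, (Commute.refl a).zpow_right k⟩
      | tail _ hAB ih =>
        intro c hc hcp
        obtain ⟨x, hx, hxp⟩ := exists_orderOf_of_le hAB.2.1 hAB.1
        exact (ih x hx hxp).tail ⟨hxp, hcp, hAB.2.2.2.2 x hx c hc⟩
    obtain ⟨he1, hc1⟩ := isElem_zpowers ha
    obtain ⟨he2, hc2⟩ := isElem_zpowers hb
    exact key _ (h _ _ he1 hc1 he2 hc2) b (Subgroup.mem_zpowers b) hb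
  · intro h E E' hE hEc hE' hEc'
    obtain ⟨a, ha, hap⟩ := exists_orderOf_of_le hEc hE
    obtain ⟨b, hb, hbp⟩ := exists_orderOf_of_le hEc' hE'
    obtain ⟨he1, hc1⟩ := isElem_zpowers hap
    obtain ⟨he2, hc2⟩ := isElem_zpowers hbp
    have hlink : ∀ (A : Subgroup G) (x : G), Cfsg.IsElementaryAbelian p A → x ∈ A →
        ∀ y ∈ A, ∀ z ∈ Subgroup.zpowers x, y * z = z * y := by
      intro A x hA hx y hy z hz
      have := congrArg Subtype.val (hA.1.is_comm.comm ⟨y, hy⟩ ⟨z, Subgroup.zpowers_le.2 hx hz⟩)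
      exact this
    refine Relation.ReflTransGen.head ⟨hE, hEc, he1, hc1, hlink E a hE ha⟩ ?_
    refine Relation.ReflTransGen.tail (b := Subgroup.zpowers b) ?_
      ⟨he2, hc2, hE', hEc', fun x hx y hy => (hlink E' b hE' hb y hy x hx).symm⟩
    have key : ∀ c, Relation.ReflTransGen (Commutes1 p) a c →
        Relation.ReflTransGen (fun A B : Subgroup G => Cfsg.IsElementaryAbelian p A ∧
          p ^ 1 ≤ Nat.card A ∧ Cfsg.IsElementaryAbelian p B ∧ p ^ 1 ≤ Nat.card B ∧
          ∀ x ∈ A, ∀ y ∈ B, x * y = y * x) (Subgroup.zpowers a) (Subgroup.zpowers c) := by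
      intro c hc
      induction hc with
      | refl => exact Relation.ReflTransGen.refl
      | tail _ hxy ih =>
        refine ih.tail ⟨(isElem_zpowers hxy.1).1, (isElem_zpowers hxy.1).2,
          (isElem_zpowers hxy.2.1).1, (isElem_zpowers hxy.2.1).2, ?_⟩
        rintro _ ⟨i, rfl⟩ _ ⟨j, rfl⟩
        exact (hxy.2.2.zpow_zpow i j).eq
    exact key b (h a b hap hbp)

theorem c1_symm {a b : G} (h : Relation.ReflTransGen (Commutes1 p) a b) :
    Relation.ReflTransGen (Commutes1 p) b a := by
  induction h with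
  | refl => exact Relation.ReflTransGen.refl
  | tail _ hxy ih => exact Relation.ReflTransGen.head ⟨hxy.2.1, hxy.1, hxy.2.2.symm⟩ ih

theorem c1_conj (g : G) {a b : G} (h : Relation.ReflTransGen (Commutes1 p) a b) :
    Relation.ReflTransGen (Commutes1 p) (g * a * g⁻¹) (g * b * g⁻¹) := by
  induction h with
  | refl => exact Relation.ReflTransGen.refl
  | @tail x y _ hxy ih =>
    refine ih.tail ⟨?_, ?_, ?_⟩
    · rw [← MulAut.conj_apply, MulEquiv.orderOf_eq, hxy.1]
    · rw [← MulAut.conj_apply, MulEquiv.orderOf_eq, hxy.2.1]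
    · exact hxy.2.2.map (MulAut.conj g).toMonoidHom

theorem not_kConnected_iff :
    (∃ H : Subgroup G, H ≠ ⊤ ∧ p ∣ Nat.card H ∧ ConjCond p H) ↔ ¬ Cfsg.IsKConnected p 1 G := by
  constructor
  · rintro ⟨H, hH, hp, hc⟩ hcon
    rw [isKConnected_one_iff] at hcon
    obtain ⟨a, ha⟩ := exists_prime_orderOf_dvd_card' p hp
    have ha' : orderOf (a : G) = p := by rw [Subgroup.orderOf_coe, ha]
    have key : ∀ c, Relation.ReflTransGen (Commutes1 p) (a : G) c → c ∈ H := by
      intro c hc'
      induction hc' with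
      | refl => exact a.2
      | @tail x y _ hxy ih =>
        by_contra hy
        refine hc y hy ?_
        have hmem : x ∈ H ⊓ H.map (MulAut.conj y).toMonoidHom := by
          refine Subgroup.mem_inf.2 ⟨ih, mem_conj_iff.2 ?_⟩
          rw [mul_assoc, hxy.2.2.eq, inv_mul_cancel_left]
          exact ih
        have := Subgroup.orderOf_dvd_natCard _ hmem
        rwa [hxy.1] at this
    obtain ⟨g, hg⟩ : ∃ g, g ∉ H := by
      by_contra hc'
      push Not at hc'
      exact hH (eq_top_iff.2 fun g _ => hc' g)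
    have hb : orderOf (g * (a : G) * g⁻¹) = p := by
      rw [← MulAut.conj_apply, MulEquiv.orderOf_eq, ha']
    refine hc g hg ?_
    have hmem : g * (a : G) * g⁻¹ ∈ H ⊓ H.map (MulAut.conj g).toMonoidHom :=
      Subgroup.mem_inf.2 ⟨key _ (hcon _ _ ha' hb), ⟨a, a.2, rfl⟩⟩
    have := Subgroup.orderOf_dvd_natCard _ hmem
    rwa [hb] at this
  · intro h
    rw [isKConnected_one_iff] at h
    push Not at h
    obtain ⟨a₀, b₀, ha₀, hb₀, hab⟩ := h
    have hdG : p ∣ Nat.card G := ha₀ ▸ orderOf_dvd_natCard a₀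
    obtain ⟨P⟩ : Nonempty (Sylow p G) := inferInstance
    haveI : Nontrivial (P : Subgroup G) :=
      (Subgroup.nontrivial_iff_ne_bot _).2 (ne_bot_of_dvd (P.dvd_card_of_dvd_card hdG))
    haveI := P.isPGroup'.center_nontrivial
    have hdZ : p ∣ Nat.card (Subgroup.center (P : Subgroup G)) :=
      dvd_of_ne_bot (G := (P : Subgroup G)) (P.isPGroup'.to_subgroup _)
        ((Subgroup.nontrivial_iff_ne_bot _).1 inferInstance)
    obtain ⟨z, hz⟩ := exists_prime_orderOf_dvd_card' p hdZ
    set x : G := ((z : (P : Subgroup G)) : G) with hxdef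
    have hx : orderOf x = p := by rw [hxdef, Subgroup.orderOf_coe, Subgroup.orderOf_coe, hz]
    have hxc : ∀ t ∈ (P : Subgroup G), t * x = x * t := fun t ht =>
      congrArg Subtype.val (Subgroup.mem_center_iff.1 z.2 ⟨t, ht⟩)
    let H : Subgroup G :=
      { carrier := {g : G | Relation.ReflTransGen (Commutes1 p) x (g * x * g⁻¹)}
        one_mem' := by
          show Relation.ReflTransGen (Commutes1 p) x (1 * x * 1⁻¹)
          simp only [one_mul, inv_one, mul_one]
          exact Relation.ReflTransGen.refl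
        mul_mem' := fun {a b} ha hb => by
          show Relation.ReflTransGen (Commutes1 p) x (a * b * x * (a * b)⁻¹)
          have := ha.trans (c1_conj a hb)
          simpa [mul_assoc] using this
        inv_mem' := fun {a} ha => by
          show Relation.ReflTransGen (Commutes1 p) x (a⁻¹ * x * a⁻¹⁻¹)
          have := c1_symm (c1_conj a⁻¹ ha)
          simpa [mul_assoc] using this }
    have hPH : (P : Subgroup G) ≤ H := fun t ht => by
      show Relation.ReflTransGen (Commutes1 p) x (t * x * t⁻¹)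
      rw [hxc t ht, mul_inv_cancel_right]
    -- every element of order `p` is linked to a conjugate of `x`
    have hlink : ∀ y : G, orderOf y = p → ∃ g : G,
        Relation.ReflTransGen (Commutes1 p) y (g * x * g⁻¹) := by
      intro y hy
      obtain ⟨T, hT⟩ := (IsPGroup.of_card (n := 1) (by rw [Nat.card_zpowers, hy, pow_one]) :
        IsPGroup p (Subgroup.zpowers y)).exists_le_sylow
      obtain ⟨g, rfl⟩ := MulAction.exists_smul_eq G P T
      refine ⟨g, Relation.ReflTransGen.single ⟨hy, ?_, ?_⟩⟩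
      · rw [← MulAut.conj_apply, MulEquiv.orderOf_eq, hx]
      · obtain ⟨t, ht, hty⟩ := hT (Subgroup.mem_zpowers y)
        have hty' : g * t * g⁻¹ = y := hty
        rw [← hty']
        show Commute (g * t * g⁻¹) (g * x * g⁻¹)
        exact (show Commute t x from hxc t ht).map (MulAut.conj g).toMonoidHom
    refine ⟨H, fun htop => ?_, (P.dvd_card_of_dvd_card hdG).trans (Subgroup.card_dvd_of_le hPH),
      fun g hg hd => hg ?_⟩
    · apply hab
      have hall : ∀ y : G, orderOf y = p → Relation.ReflTransGen (Commutes1 p) x y := by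
        intro y hy
        obtain ⟨g, hg⟩ := hlink y hy
        have : g ∈ H := by rw [htop]; trivial
        exact (this : Relation.ReflTransGen (Commutes1 p) x (g * x * g⁻¹)).trans (c1_symm hg)
      exact (c1_symm (hall a₀ ha₀)).trans (hall b₀ hb₀)
    · obtain ⟨y, hy⟩ := exists_prime_orderOf_dvd_card' p hd
      have hy' : orderOf (y : G) = p := by rw [Subgroup.orderOf_coe, hy]
      have key : ∀ k : G, k⁻¹ * (y : G) * k ∈ H →
          Relation.ReflTransGen (Commutes1 p) (k * x * k⁻¹) (y : G) := by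
        intro k hk
        have hord : orderOf (k⁻¹ * (y : G) * k) = p := by
          rw [show k⁻¹ * (y : G) * k = MulAut.conj k⁻¹ (y : G) by simp, MulEquiv.orderOf_eq, hy']
        obtain ⟨m, hm, hle⟩ := exists_conj_le H (P.subtype hPH)
          (Subgroup.zpowers (k⁻¹ * (y : G) * k)) (Subgroup.zpowers_le.2 hk)
          (IsPGroup.of_card (n := 1) (by rw [Nat.card_zpowers, hord, pow_one]))
        rw [Sylow.coe_subtype, Subgroup.subgroupOf_map_subtype] at hle
        have h1 : m * (k⁻¹ * (y : G) * k) * m⁻¹ ∈ (P : Subgroup G) :=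
          (hle ⟨_, Subgroup.mem_zpowers _, rfl⟩).1
        have h2 : Commute (k⁻¹ * (y : G) * k) (m⁻¹ * x * m) := by
          have := congrArg (fun u => m⁻¹ * u * m) (hxc _ h1)
          show _ = _
          simpa [mul_assoc] using this
        have hmx : Relation.ReflTransGen (Commutes1 p) x (m⁻¹ * x * m) := by
          have : Relation.ReflTransGen (Commutes1 p) x (m⁻¹ * x * m⁻¹⁻¹) := (inv_mem hm : m⁻¹ ∈ H)
          simpa using this
        have h3 : Relation.ReflTransGen (Commutes1 p) x (k⁻¹ * (y : G) * k) := by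
          refine hmx.tail ⟨?_, hord, h2.symm⟩
          rw [show m⁻¹ * x * m = MulAut.conj m⁻¹ x by simp, MulEquiv.orderOf_eq, hx]
        have h4 := c1_conj k h3
        simpa [mul_assoc] using h4
      have hA := key 1 (by simpa using y.2.1)
      have hB := key g (mem_conj_iff.1 y.2.2)
      simp only [one_mul, inv_one, mul_one] at hA
      exact hA.trans (c1_symm hB)

/-- Frattini: a strongly embedded subgroup supplements the `p'`-elements of `N`. -/
theorem sup_coprime_eq_top {H : Subgroup G} (hp : p ∣ Nat.card H) (hc : ConjCond p H)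
    (N : Subgroup G) [N.Normal] (hN : p ∣ Nat.card N) :
    H ⊔ Subgroup.closure {g : G | g ∈ N ∧ (orderOf g).Coprime p} = ⊤ := by
  have hnc := norm_of_conj hc
  obtain ⟨S⟩ : Nonempty (Sylow p H) := inferInstance
  obtain ⟨P, hP⟩ := exists_sylow hp hnc S
  have hPH : (P : Subgroup G) ≤ H := hP ▸ Subgroup.map_subtype_le _
  obtain ⟨R, hR⟩ : ∃ R : Sylow p N, (R : Subgroup N).map N.subtype ≤ (P : Subgroup G) := by
    obtain ⟨R0⟩ : Nonempty (Sylow p N) := inferInstance
    obtain ⟨P', hP'⟩ := (R0.isPGroup'.map N.subtype).exists_le_sylow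
    obtain ⟨g, hg⟩ := MulAction.exists_smul_eq G P' P
    refine ⟨(MulAut.conjNormal g : MulAut N) • R0, ?_⟩
    rintro _ ⟨_, ⟨r, hr, rfl⟩, rfl⟩
    rw [← hg]
    exact ⟨r, hP' ⟨r, hr, rfl⟩, rfl⟩
  set R' : Subgroup G := (R : Subgroup N).map N.subtype with hR'
  have hR'ne : R' ≠ ⊥ := by
    rw [hR', ne_eq, Subgroup.map_eq_bot_iff_of_injective _ (Subgroup.subtype_injective N)]
    intro h1
    have := R.dvd_card_of_dvd_card hN
    rw [h1, Subgroup.card_bot, Nat.dvd_one] at this
    exact (Fact.out : p.Prime).ne_one this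
  set C : Subgroup G := Subgroup.closure {g : G | g ∈ N ∧ (orderOf g).Coprime p} with hC
  have hNle : N ≤ H ⊔ C := by
    have h1 : (Cfsg.pResidual p N).map N.subtype ≤ C := by
      rw [Cfsg.pResidual, MonoidHom.map_closure]
      refine Subgroup.closure_mono ?_
      rintro _ ⟨x, hx, rfl⟩
      exact ⟨x.2, by rw [Subgroup.coe_subtype, Subgroup.orderOf_coe]; exact hx⟩
    have h2 := congrArg (Subgroup.map N.subtype) (Cfsg.Lib.Transfer.pResidual_sup_sylow R)
    rw [Subgroup.map_sup, ← MonoidHom.range_eq_map, Subgroup.range_subtype] at h2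
    rw [← h2]
    exact sup_le (h1.trans le_sup_right) ((hR.trans hPH).trans le_sup_left)
  rw [eq_top_iff, ← Sylow.normalizer_sup_eq_top R]
  refine sup_le (le_trans ?_ le_sup_left) hNle
  exact hnc R' (hR.trans hPH) (R.isPGroup'.map _) hR'ne

theorem members_sup_normalizer (𝓕 : Set (Subgroup G)) (h𝓕 : Cfsg.IsNormalSet 𝓕)
    (hc : Cfsg.ControlsSylowIntersections p 𝓕) (hconn : Cfsg.IsSylowChainConnected p G)
    (S : Sylow p G) :
    (⨆ X ∈ Cfsg.sylowMembers p 𝓕 (S : Subgroup G), X) ⊔
      Subgroup.normalizer ((S : Subgroup G) : Set G) = ⊤ := by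
  set K : Subgroup G := (⨆ X ∈ Cfsg.sylowMembers p 𝓕 (S : Subgroup G), X) ⊔
    Subgroup.normalizer ((S : Subgroup G) : Set G) with hK
  -- members of a translate
  have hmem : ∀ k ∈ K, ∀ X ∈ Cfsg.sylowMembers p 𝓕 (((k • S : Sylow p G)) : Subgroup G),
      X ≤ K := by
    intro k hk X hX
    obtain ⟨hXF, P, hP⟩ := hX
    set X' : Subgroup G := Cfsg.subgroupConjRight k X with hX'
    have hX'mem : X' ∈ Cfsg.sylowMembers p 𝓕 (S : Subgroup G) := by
      refine ⟨h𝓕 X hXF k, ?_⟩
      have hle : (P : Subgroup X).map X.subtype ≤ X := Subgroup.map_subtype_le _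
      have hX'p : IsPGroup p ↥(((S : Subgroup G) ⊓ X').subgroupOf X') :=
        (S.isPGroup'.to_le inf_le_left).comap_of_injective X'.subtype (Subgroup.subtype_injective X')
      obtain ⟨Q, hQ⟩ := hX'p.exists_le_sylow
      refine ⟨Q, le_antisymm ?_ fun x hx => ⟨⟨x, hx.2⟩, hQ (x := ⟨x, hx.2⟩) hx, rfl⟩⟩
      have hXX' : Nat.card X' = Nat.card X :=
        (Nat.card_congr (X.equivMapOfInjective _ (MulAut.conj k⁻¹).injective).toEquiv).symm
      have hsub : ((S : Subgroup G) ⊓ X') = ((P : Subgroup X).map X.subtype).map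
          (MulAut.conj k⁻¹).toMonoidHom := by
        rw [hP, Subgroup.map_inf _ _ _ (MulAut.conj k⁻¹).injective]
        congr 1
        exact (map_conj_eq (Q := (S : Subgroup G)) k).symm
      refine (Subgroup.eq_of_le_of_card_ge (H := (S : Subgroup G) ⊓ X')
        (K := (Q : Subgroup X').map X'.subtype) (fun x hx => ⟨⟨x, hx.2⟩, hQ (x := ⟨x, hx.2⟩) hx, rfl⟩)
        (le_of_eq ?_)).ge
      rw [hsub, ← Nat.card_congr (Subgroup.equivMapOfInjective _ _
          (Subgroup.subtype_injective X')).toEquiv,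
        ← Nat.card_congr (Subgroup.equivMapOfInjective _ _ (MulAut.conj k⁻¹).injective).toEquiv,
        ← Nat.card_congr (Subgroup.equivMapOfInjective _ _
          (Subgroup.subtype_injective X)).toEquiv,
        Sylow.card_eq_multiplicity, Sylow.card_eq_multiplicity, hXX']
    intro x hx
    have h1 : k⁻¹ * x * k ∈ K := by
      refine le_sup_left (a := (⨆ X ∈ Cfsg.sylowMembers p 𝓕 (S : Subgroup G), X))
        (le_iSup₂ (f := fun X _ => X) X' hX'mem (show k⁻¹ * x * k ∈ X' from ⟨x, hx, by simp⟩))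
    have := mul_mem (mul_mem hk h1) (inv_mem hk)
    simpa [mul_assoc] using this
  have key : ∀ T, Relation.ReflTransGen Meets S T → ∃ k ∈ K, k • S = T := by
    intro T hT
    induction hT with
    | refl => exact ⟨1, one_mem _, one_smul _ _⟩
    | @tail U V _ hUV ih =>
      by_cases he : U = V
      · subst he; exact ih
      obtain ⟨n, c, X, x, h0, hn, hstep⟩ := hc U V he hUV
      have hall : ∀ i : Fin (n + 1), ∃ k ∈ K, k • S = c i := by
        intro i
        induction i using Fin.induction with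
        | zero => rw [h0]; exact ih
        | succ i ihi =>
          obtain ⟨k, hk, hkS⟩ := ihi
          obtain ⟨hX1, -, hxX, hconj, -⟩ := hstep i
          rw [← hkS] at hX1
          have hxK : x i ∈ K := hmem k hk (X i) hX1 hxX
          refine ⟨x i * k, mul_mem hxK hk, Sylow.ext ?_⟩
          rw [mul_smul, hkS]
          show (c i.castSucc : Subgroup G).map (MulAut.conj (x i)).toMonoidHom = _
          rw [← hconj, Cfsg.subgroupConjRight]
          have := map_conj_eq (Q := (c i.succ : Subgroup G)) (x i)⁻¹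
          rwa [inv_inv] at this
      have := hall (Fin.last n)
      rwa [hn] at this
  rw [eq_top_iff]
  intro g _
  obtain ⟨k, hk, hkS⟩ := key (g • S) (connected_iff.1 hconn S (g • S))
  have h1 : k⁻¹ * g ∈ Subgroup.normalizer ((S : Subgroup G) : Set G) := by
    refine Sylow.smul_eq_iff_mem_normalizer.1 ?_
    rw [mul_smul, ← hkS, inv_smul_smul]
  have := mul_mem hk (Subgroup.mem_sup_right (S := ⨆ X ∈ Cfsg.sylowMembers p 𝓕 (S : Subgroup G), X) h1)
  simpa using this

end Cfsg.Lib.Embedded
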